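import Cfsg.Agent.H78.EightNine.Lists
import Mathlib.GroupTheory.Perm.Closure

/-! Carmichael's generators generate the alternating group of degree 8. -/

set_option autoImplicit false
set_option maxRecDepth 20000

namespace H78.EightNine

open Equiv

theorem swap_facts : swap (0 : Fin 8) 1 * swap 0 1 = 1 ∧
    swap (0 : Fin 8) 1 * gen 0 * swap 0 1 = (gen 0)⁻¹ ∧
    (∀ i : Fin 7, swap (0 : Fin 8) 1 * swap i.castSucc i.succ =
      [1, (gen 0)⁻¹, gen 1, gen 2, gen 3, gen 4, gen 5].getD i.val 1 ∨
      swap (0 : Fin 8) 1 * swap i.castSucc i.succ =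
      [1, gen 0, gen 1, gen 2, gen 3, gen 4, gen 5].getD i.val 1) := by decide +kernel

theorem swap_conj_gen : ∀ i : Fin 6, swap (0 : Fin 8) 1 * gen i.val * swap 0 1 = gen i.val ∨
    swap (0 : Fin 8) 1 * gen i.val * swap 0 1 = (gen i.val)⁻¹ := by decide +kernel

/-- The even permutations are in the subgroup generated by the generators. -/
theorem mem_closure_gen {p : P8} (hp : Perm.sign p = 1) :
    p ∈ Subgroup.closure (gen '' Set.Iio 6) := by
  set S := Subgroup.closure (gen '' Set.Iio 6) with hS
  set τ := swap (0 : Fin 8) 1 with hτ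
  have hg : ∀ i, i < 6 → gen i ∈ S := fun i hi => Subgroup.subset_closure ⟨i, hi, rfl⟩
  have hτi : τ⁻¹ = τ := inv_eq_of_mul_eq_one_right swap_facts.1
  have hconj : ∀ x ∈ S, τ * x * τ ∈ S := by
    intro x hx
    have hx' : τ * x * τ⁻¹ ∈ S := by
      have : S ≤ S.comap (MulAut.conj τ).toMonoidHom := by
        rw [hS, Subgroup.closure_le]
        rintro _ ⟨i, hi, rfl⟩
        show τ * gen i * τ⁻¹ ∈ S
        rw [hτi]
        rcases swap_conj_gen ⟨i, hi⟩ with e | e <;> rw [show τ * gen i * τ = _ from e]
        · exact hg i hi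
        · exact inv_mem (hg i hi)
      exact this hx
    rwa [hτi] at hx'
  have hsgnS : ∀ x ∈ S, Perm.sign x = 1 := by
    intro x hx
    refine MonoidHom.mem_ker.mp ((show S ≤ Perm.sign.ker from ?_) hx)
    rw [hS, Subgroup.closure_le]
    rintro _ ⟨i, -, rfl⟩
    exact sign_gen i
  have hall : ∀ q : P8, q ∈ S ∨ τ * q ∈ S := by
    intro q
    have hq : q ∈ Submonoid.closure (Set.range fun i : Fin 7 => swap i.castSucc i.succ) := by
      rw [Equiv.Perm.mclosure_swap_castSucc_succ]; exact Submonoid.mem_top q
    induction hq using Submonoid.closure_induction with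
    | mem x hx =>
      obtain ⟨i, rfl⟩ := hx
      refine Or.inr ?_
      rcases swap_facts.2.2 i with e | e <;> rw [show τ * _ = _ from e]
      · fin_cases i
        · exact one_mem S
        · exact inv_mem (hg 0 (by norm_num))
        exacts [hg 1 (by norm_num), hg 2 (by norm_num), hg 3 (by norm_num), hg 4 (by norm_num), hg 5 (by norm_num)]
      · fin_cases i
        · exact one_mem S
        exacts [hg 0 (by norm_num), hg 1 (by norm_num), hg 2 (by norm_num), hg 3 (by norm_num), hg 4 (by norm_num), hg 5 (by norm_num)]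
    | one => exact Or.inl (one_mem S)
    | mul x y _ _ ihx ihy =>
      rcases ihx with hx | hx <;> rcases ihy with hy | hy
      · exact Or.inl (mul_mem hx hy)
      · refine Or.inr ?_
        have e : τ * (x * y) = (τ * x * τ) * (τ * y) := by
          rw [← mul_assoc (τ * x * τ), mul_assoc (τ * x), swap_facts.1, mul_one, mul_assoc]
        exact e ▸ mul_mem (hconj x hx) hy
      · exact Or.inr (mul_assoc τ x y ▸ mul_mem hx hy)
      · refine Or.inl ?_
        have e : x * y = (τ * (τ * x) * τ) * (τ * y) := by
          rw [← mul_assoc τ τ, swap_facts.1, one_mul, ← mul_assoc (x * τ), mul_assoc x τ τ,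
            swap_facts.1, mul_one]
        exact e ▸ mul_mem (hconj _ hx) hy
  rcases hall p with h | h
  · exact h
  · have := hsgnS _ h
    rw [map_mul, hp, hτ, Perm.sign_swap (by decide : (0 : Fin 8) ≠ 1)] at this
    exact absurd this (by decide)

end H78.EightNine
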