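import Cfsg.Agent.H78.EightNine.Perms

/-! Decided facts on the lists of permutations. -/

set_option autoImplicit false
set_option maxRecDepth 20000

namespace H78.EightNine

open Equiv

/-- The four-group on the last four points. -/
def v4 : List P8 := [1, v1, v2, v1 * v2]

/-- The subgroup of order 8 generated by the short involution and the last four-group. -/
def q8 : List P8 := v4.flatMap fun b => [b, y0 * b]

/-- The centralizer of `gen 3` in `t32`. -/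
def t8 : List P8 := t32.filter fun p => decide (p * gen 3 = gen 3 * p)

/-- The values of a permutation. -/
def vals (p : P8) : List (Fin 8) := (List.finRange 8).map p

theorem vals_inj {p q : P8} (h : vals p = vals q) : p = q := by
  refine Equiv.ext fun i => ?_
  exact List.map_inj_left.mp h i (List.mem_finRange i)

theorem cent_pair_vals : ∀ a b c d : Fin 8,
    [a, sg a, b, sg b, c, sg c, d, sg d].Nodup →
    y0 a = sg a → y0 b = sg b → y0 c = c → y0 d = d →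
    (t32.any fun q => decide (vals q = [a, sg a, b, sg b, c, sg c, d, sg d]) ||
      decide (vals (q * swap 0 1) = [a, sg a, b, sg b, c, sg c, d, sg d])) = true := by
  decide +kernel

theorem mem_t32 {p : P8} (hs : Perm.sign p = 1) (h1 : p * sg = sg * p) (h2 : p * y0 = y0 * p) :
    p ∈ t32 := by
  have e1 : ∀ i, p (sg i) = sg (p i) := fun i => Perm.ext_iff.mp h1 i
  have e2 : ∀ i, p (y0 i) = y0 (p i) := fun i => Perm.ext_iff.mp h2 i
  have hv : vals p = [p 0, sg (p 0), p 2, sg (p 2), p 4, sg (p 4), p 6, sg (p 6)] := by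
    rw [← e1, ← e1, ← e1, ← e1]
    rfl
  have hnd : (vals p).Nodup := (List.nodup_finRange 8).map p.injective
  rw [hv] at hnd
  have h := cent_pair_vals (p 0) (p 2) (p 4) (p 6) hnd (by rw [← e1, ← e2]; rfl)
    (by rw [← e1, ← e2]; rfl) (by rw [← e2]; rfl) (by rw [← e2]; rfl)
  rw [List.any_eq_true] at h
  obtain ⟨q, hq, hq'⟩ := h
  rw [Bool.or_eq_true, decide_eq_true_iff, decide_eq_true_iff, ← hv] at hq'
  rcases hq' with e | e
  · exact vals_inj e ▸ hq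
  · rw [← vals_inj e, map_mul, (t32_facts.2.2 q hq).1,
      Perm.sign_swap (by decide : (0 : Fin 8) ≠ 1)] at hs
    exact absurd hs (by decide)

theorem closed_e16 : (1 : P8) ∈ e16 ∧ ∀ p ∈ e16, p⁻¹ ∈ e16 ∧ ∀ q ∈ e16, p * q ∈ e16 := by
  have h : ∀ p ∈ e16, p⁻¹ ∈ e16 ∧ (e16.all fun q => decide (p * q ∈ e16)) = true :=
    forall_mem_of_all (by decide +kernel)
  exact ⟨by decide +kernel, fun p hp => ⟨(h p hp).1,
    fun q hq => of_decide_eq_true (List.all_eq_true.mp (h p hp).2 q hq)⟩⟩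

theorem closed_q8 : (1 : P8) ∈ q8 ∧ ∀ p ∈ q8, p⁻¹ ∈ q8 ∧ ∀ q ∈ q8, p * q ∈ q8 := by
  have h : ∀ p ∈ q8, p⁻¹ ∈ q8 ∧ (q8.all fun q => decide (p * q ∈ q8)) = true :=
    forall_mem_of_all (by decide +kernel)
  exact ⟨by decide +kernel, fun p hp => ⟨(h p hp).1,
    fun q hq => of_decide_eq_true (List.all_eq_true.mp (h p hp).2 q hq)⟩⟩

theorem closed_v4 : (1 : P8) ∈ v4 ∧ ∀ p ∈ v4, p⁻¹ ∈ v4 ∧ ∀ q ∈ v4, p * q ∈ v4 := by
  have h : ∀ p ∈ v4, p⁻¹ ∈ v4 ∧ (v4.all fun q => decide (p * q ∈ v4)) = true :=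
    forall_mem_of_all (by decide +kernel)
  exact ⟨by decide +kernel, fun p hp => ⟨(h p hp).1,
    fun q hq => of_decide_eq_true (List.all_eq_true.mp (h p hp).2 q hq)⟩⟩

theorem sub_facts : e16.Nodup ∧ q8.Nodup ∧ q8.length = 8 ∧ v4.Nodup ∧ v4.length = 4 ∧ t8.Nodup ∧
    t8.length = 8 ∧ y0 ∈ e16 ∧ v0 ∈ e16 ∧ y0 ∈ q8 ∧ y0 ∉ v4 ∧ sg ∈ t32 := by decide +kernel

theorem v4_sub : ∀ p ∈ v4, p ∈ e16 ∧ p ∈ q8 ∧ p ∈ a12 ∧ Perm.sign p = 1 ∧ p * y0 = y0 * p :=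
  forall_mem_of_all (by decide +kernel)

theorem q8_sub : ∀ p ∈ q8, p ∈ e16 ∧ p * y0 = y0 * p ∧ Perm.sign p = 1 ∧
    ((∀ i, p i ≠ i) ∨ p = 1 ∨ p = y0 ∨ ∀ i, (p * y0) i ≠ i) :=
  forall_mem_of_all (by decide +kernel)

theorem t32_q_central : ∀ p ∈ t8, (∀ i, p i ≠ i) → p * p = 1 → p = sg :=
  forall_mem_of_all (by decide +kernel)

theorem v0_facts : ¬ (∀ i, (v0 * y0) i ≠ i) ∧ v0 * y0 = y0 * v0 ∧ v0 * v0 = 1 ∧
    ¬ (∀ i, v0 i ≠ i) ∧ v0 ≠ y0 ∧ v0 ≠ 1 ∧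
    (v0 * gen 3) * (v0 * gen 3) = y0 ∧ gen 3 * gen 3 = 1 ∧ gen 3 * y0 = y0 * gen 3 := by
  decide +kernel

theorem t32_split : ∀ p ∈ t32, p ∈ e16 ∨ p * gen 3 ∈ e16 := forall_mem_of_all (by decide +kernel)

theorem e16_split : ∀ p ∈ e16, p ∈ v4 ∨ y0 * p ∈ v4 ∨ v0 * p ∈ q8 :=
  forall_mem_of_all (by decide +kernel)

theorem v4_moves : ∀ p ∈ v4, p = 1 ∨ ∃ k ∈ [1, c0, c0 * c0], k * v1 * k⁻¹ = p := by
  have h : ∀ p ∈ v4, (decide (p = 1) || [1, c0, c0 * c0].any fun k => decide (k * v1 * k⁻¹ = p)) = true :=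
    forall_mem_of_all (by decide +kernel)
  intro p hp
  have h' := h p hp
  rw [Bool.or_eq_true, decide_eq_true_iff, List.any_eq_true] at h'
  rcases h' with e | ⟨k, hk, hke⟩
  · exact Or.inl e
  · exact Or.inr ⟨k, hk, of_decide_eq_true hke⟩

theorem k3_facts : ∀ k ∈ [1, c0, c0 * c0], k ∈ a12 ∧ Perm.sign k = 1 ∧ k * y0 = y0 * k ∧
    (v4.all fun b => decide (k * b * k⁻¹ ∈ v4) && decide (k * b ∈ a12)) = true :=
  forall_mem_of_all (by decide +kernel)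

theorem a12_split : ∀ p ∈ a12, (v4.all fun b => decide (p * b * p⁻¹ ∈ v4)) = true :=
  forall_mem_of_all (by decide +kernel)

theorem odd_facts : c0 ^ 3 = 1 ∧ v1 = (v1 * (c0 * c0)) * c0 ∧ v2 = (v2 * (c0 * c0)) * c0 ∧
    (v1 * (c0 * c0)) ^ 3 = 1 ∧ (v2 * (c0 * c0)) ^ 3 = 1 := by decide +kernel

end H78.EightNine
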