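import Cfsg.Agent.H78.EightNine.Perms
import Cfsg.Agent.H55.SThree.TwoDef
import Mathlib.Algebra.Group.Subgroup.Finite

/-!
A group with a copy of the alternating group of degree 8 containing the centralizer of a long
involution, in which the two classes of involutions of the copy are not fused.
-/

set_option autoImplicit false
set_option maxRecDepth 20000

namespace H78.EightNine

open Equiv

abbrev A8 := ↥(alternatingGroup (Fin 8))

/-- The long involution as an element of the alternating group. -/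
def sgA : A8 := ⟨sg, sign_facts.1⟩
/-- The short involution as an element of the alternating group. -/
def yA : A8 := ⟨y0, sign_facts.2.1⟩

theorem isConj_of_cycleType {a b r : P8} (ha : Perm.sign a = 1) (hb : Perm.sign b = 1)
    (hr : Perm.sign r = -1) (hrb : r * b = b * r) (h : a.cycleType = b.cycleType) :
    IsConj (⟨b, hb⟩ : A8) ⟨a, ha⟩ := by
  obtain ⟨c, hc⟩ := isConj_iff.mp (Perm.isConj_iff_cycleType_eq.mpr h.symm)
  rcases Int.units_eq_one_or (Perm.sign c) with h1 | h1
  · exact isConj_iff.mpr ⟨⟨c, h1⟩, Subtype.ext hc⟩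
  · refine isConj_iff.mpr ⟨⟨c * r, by
      show Perm.sign (c * r) = 1
      rw [map_mul, h1, hr]; rfl⟩, Subtype.ext ?_⟩
    show c * r * b * (c * r)⁻¹ = a
    rw [← hc, mul_inv_rev, show c * r * b = c * (b * r) by rw [mul_assoc, hrb]]
    group

/-- An involution of the alternating group of degree 8 is long or short. -/
theorem long_or_short {a : A8} (h2 : a * a = 1) (h1 : a ≠ 1) :
    (IsConj sgA a ∧ ∀ i, (a : P8) i ≠ i) ∨ (IsConj yA a ∧ ¬ ∀ i, (a : P8) i ≠ i) := by
  have : Fact (Nat.Prime 2) := ⟨Nat.prime_two⟩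
  obtain ⟨p, hp⟩ := a
  have hp2 : p * p = 1 := congrArg Subtype.val h2
  have hp1 : p ≠ 1 := fun h => h1 (Subtype.ext h)
  have hord : orderOf p = 2 := orderOf_eq_prime (by rw [pow_two, hp2]) hp1
  obtain ⟨n, hn⟩ := Equiv.Perm.cycleType_prime_order (σ := p) (hord.symm ▸ Nat.prime_two)
  rw [hord] at hn
  have hsum := Equiv.Perm.sum_cycleType p
  rw [hn, Multiset.sum_replicate, smul_eq_mul] at hsum
  have hle : p.support.card ≤ 8 := (Finset.card_le_univ _).trans_eq (Fintype.card_fin 8)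
  have hsgn : Perm.sign p = 1 := hp
  rw [Equiv.Perm.sign_of_cycleType, hn, Multiset.sum_replicate, Multiset.card_replicate,
    smul_eq_mul] at hsgn
  have hcases : n = 1 ∨ n = 3 := by
    rcases (show n = 0 ∨ n = 1 ∨ n = 2 ∨ n = 3 by omega) with rfl | rfl | rfl | rfl
    · exact absurd hsgn (by decide)
    · exact Or.inl rfl
    · exact absurd hsgn (by decide)
    · exact Or.inr rfl
  rcases hcases with rfl | rfl
  · refine Or.inr ⟨isConj_of_cycleType hp sign_facts.2.1 (Perm.sign_swap (by decide : (0 : Fin 8) ≠ 1))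
      (by decide +kernel) ?_, fun hall => ?_⟩
    · rw [hn]; decide +kernel
    · have : p.support = Finset.univ := by ext i; simp [hall i]
      rw [this, Finset.card_univ, Fintype.card_fin] at hsum
      omega
  · refine Or.inl ⟨isConj_of_cycleType hp sign_facts.1 (Perm.sign_swap (by decide : (0 : Fin 8) ≠ 1))
      (by decide +kernel) ?_, fun i => ?_⟩
    · rw [hn]; decide +kernel
    · have : p.support = Finset.univ := Finset.eq_univ_of_card _ (by rw [Fintype.card_fin]; omega)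
      exact Perm.mem_support.mp (this.symm ▸ Finset.mem_univ i)

/-- The copy of the alternating group. -/
structure Eight (G : Type*) [Group G] where
  j : A8 →* G
  inj : Function.Injective j
  range : ∀ g, Commute g (j sgA) → g ∈ j.range
  not_conj : ¬ IsConj (j sgA) (j yA)

namespace Eight

variable {G : Type*} [Group G] (E : Eight G)

/-- The image of an even permutation. -/
def J (p : P8) : G := if h : Perm.sign p = 1 then E.j ⟨p, h⟩ else 1

theorem J_coe (a : A8) : E.J (a : P8) = E.j a := by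
  have h : Perm.sign (a : P8) = 1 := a.2
  rw [J, dif_pos h]

theorem J_mul {p q : P8} (hp : Perm.sign p = 1) (hq : Perm.sign q = 1) :
    E.J (p * q) = E.J p * E.J q := by
  have h : Perm.sign (p * q) = 1 := by rw [map_mul, hp, hq]; rfl
  rw [J, J, J, dif_pos hp, dif_pos hq, dif_pos h, ← map_mul]
  rfl

theorem J_one : E.J 1 = 1 := by
  rw [J, dif_pos (map_one _)]
  exact map_one E.j

theorem J_inv {p : P8} (hp : Perm.sign p = 1) : E.J p⁻¹ = (E.J p)⁻¹ := by
  refine (inv_eq_of_mul_eq_one_right ?_).symm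
  rw [← E.J_mul hp (by rw [map_inv, hp]; rfl), mul_inv_cancel, J_one]

theorem J_inj {p q : P8} (hp : Perm.sign p = 1) (hq : Perm.sign q = 1) (h : E.J p = E.J q) :
    p = q := by
  rw [J, J, dif_pos hp, dif_pos hq] at h
  exact congrArg Subtype.val (E.inj h)

theorem J_commute {p q : P8} (hp : Perm.sign p = 1) (hq : Perm.sign q = 1) :
    Commute (E.J p) (E.J q) ↔ p * q = q * p := by
  rw [Commute, SemiconjBy, ← E.J_mul hp hq, ← E.J_mul hq hp]
  exact ⟨E.J_inj (by rw [map_mul, hp, hq]; rfl) (by rw [map_mul, hp, hq]; rfl), fun h => by rw [h]⟩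

theorem J_conj {p q : P8} (hp : Perm.sign p = 1) (hq : Perm.sign q = 1) :
    E.J p * E.J q * (E.J p)⁻¹ = E.J (p * q * p⁻¹) := by
  rw [E.J_mul (by rw [map_mul, hp, hq]; rfl) (by rw [map_inv, hp]; rfl), E.J_mul hp hq, E.J_inv hp]

/-- The copy as a subgroup. -/
abbrev G0 : Subgroup G := E.j.range

theorem mem_G0 {g : G} : g ∈ E.G0 ↔ ∃ p, Perm.sign p = 1 ∧ E.J p = g := by
  constructor
  · rintro ⟨a, rfl⟩
    exact ⟨a, a.2, E.J_coe a⟩
  · rintro ⟨p, hp, rfl⟩
    rw [J, dif_pos hp]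
    exact ⟨_, rfl⟩

theorem J_mem (p : P8) : E.J p ∈ E.G0 := by
  unfold J
  split_ifs
  exacts [⟨_, rfl⟩, one_mem _]

/-- The long involution. -/
abbrev s : G := E.J sg
/-- The short involution. -/
abbrev y : G := E.J y0

theorem s_eq : E.s = E.j sgA := E.J_coe sgA
theorem y_eq : E.y = E.j yA := E.J_coe yA

theorem mem_G0_of_commute_s {g : G} (h : Commute g E.s) : g ∈ E.G0 := E.range g (E.s_eq ▸ h)

theorem s_sq : E.s * E.s = 1 := by rw [← E.J_mul sign_facts.1 sign_facts.1, sg_facts.2.1, J_one]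
theorem y_sq : E.y * E.y = 1 := by
  rw [← E.J_mul sign_facts.2.1 sign_facts.2.1, sg_facts.2.2.2.2.2.1, J_one]

theorem not_conj' : ¬ IsConj E.s E.y := by rw [s_eq, y_eq]; exact E.not_conj

theorem conj_cases {p : P8} (hp : Perm.sign p = 1) (h2 : p * p = 1) (h1 : p ≠ 1) :
    ((∀ i, p i ≠ i) ∧ ∃ k ∈ E.G0, k * E.s * k⁻¹ = E.J p) ∨
    ((¬ ∀ i, p i ≠ i) ∧ ∃ k ∈ E.G0, k * E.y * k⁻¹ = E.J p) := by
  rcases long_or_short (a := ⟨p, hp⟩) (Subtype.ext h2) (fun h => h1 (congrArg Subtype.val h)) with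
    ⟨hc, hi⟩ | ⟨hc, hi⟩
  all_goals obtain ⟨k, hk⟩ := isConj_iff.mp hc
  · refine Or.inl ⟨hi, E.j k, ⟨k, rfl⟩, ?_⟩
    rw [s_eq, ← map_inv, ← map_mul, ← map_mul, hk]
    exact (E.J_coe _).symm
  · refine Or.inr ⟨hi, E.j k, ⟨k, rfl⟩, ?_⟩
    rw [y_eq, ← map_inv, ← map_mul, ← map_mul, hk]
    exact (E.J_coe _).symm

/-- Conjugates of the long involution in the copy are long. -/
theorem long_of_conj {p : P8} (hp : Perm.sign p = 1) (h : IsConj E.s (E.J p)) : ∀ i, p i ≠ i := by
  obtain ⟨g, hg⟩ := isConj_iff.mp h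
  have h2 : p * p = 1 := E.J_inj (by rw [map_mul, hp]; rfl) (map_one _) (by
    rw [E.J_mul hp hp, J_one, ← hg, conj_mul, E.s_sq, mul_one, mul_inv_cancel])
  have h1 : p ≠ 1 := by
    rintro rfl
    rw [J_one, conj_eq_one_iff] at hg
    exact sg_facts.1 0 (by rw [E.J_inj sign_facts.1 (map_one _) (hg.trans E.J_one.symm)]; rfl)
  rcases E.conj_cases hp h2 h1 with ⟨hi, -⟩ | ⟨-, k, -, hk⟩
  · exact hi
  · exact absurd (h.trans (isConj_iff.mpr ⟨k, hk⟩).symm) E.not_conj'

/-- The copy controls the fusion of long involutions. -/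
theorem mem_G0_of_conj {g : G} (h : g * E.s * g⁻¹ ∈ E.G0) : g ∈ E.G0 := by
  obtain ⟨p, hp, hpe⟩ := E.mem_G0.mp h
  have hlong := E.long_of_conj hp (isConj_iff.mpr ⟨g, hpe.symm⟩)
  have h2 : p * p = 1 := E.J_inj (by rw [map_mul, hp]; rfl) (map_one _) (by
    rw [E.J_mul hp hp, J_one, hpe, conj_mul, E.s_sq, mul_one, mul_inv_cancel])
  have h1 : p ≠ 1 := fun e => hlong 0 (by rw [e]; rfl)
  rcases E.conj_cases hp h2 h1 with ⟨-, k, hk, hke⟩ | ⟨hi, -⟩
  · have hc : Commute (k⁻¹ * g) E.s := by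
      show _ = _
      calc k⁻¹ * g * E.s = k⁻¹ * (g * E.s * g⁻¹) * g := by group
        _ = k⁻¹ * (k * E.s * k⁻¹) * g := by rw [← hpe, hke]
        _ = _ := by group
    simpa using mul_mem hk (E.mem_G0_of_commute_s hc)
  · exact absurd hlong hi

/-- The centralizer of a long involution of the copy lies in the copy. -/
theorem mem_G0_of_commute_long {p : P8} (hp : Perm.sign p = 1) (h2 : p * p = 1)
    (hl : ∀ i, p i ≠ i) {g : G} (h : Commute g (E.J p)) : g ∈ E.G0 := by
  rcases E.conj_cases hp h2 (fun e => hl 0 (by rw [e]; rfl)) with ⟨-, k, hk, hke⟩ | ⟨hi, -⟩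
  · have h' : (g * k) * E.s * (g * k)⁻¹ ∈ E.G0 := by
      rw [show (g * k) * E.s * (g * k)⁻¹ = g * (k * E.s * k⁻¹) * g⁻¹ by group, hke, h.eq,
        mul_inv_cancel_right]
      exact E.J_mem p
    simpa using mul_mem (E.mem_G0_of_conj h') (inv_mem hk)
  · exact absurd hl hi

end Eight

end H78.EightNine
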