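import Cfsg.Agent.H78.EightNine.Five

/-! An involution outside the copy satisfying the relations of a further Carmichael generator. -/

set_option autoImplicit false
set_option maxRecDepth 20000

namespace H78.EightNine

open Equiv

theorem perm_facts : gen 4 = gen 3 * c0 ∧ gen 5 = gen 3 * v1 ∧ t0 = gen 3 * (v2 * c0) ∧
    pi0 * y0 * pi0⁻¹ = gen 4 ∧ pi0 * gen 4 * pi0⁻¹ = y0 ∧ pi0 * gen 3 * pi0⁻¹ = gen 2 ∧
    pi0 * t0 = t0 * pi0 ∧ t0 * y0 = y0 * t0 ∧ gen 4 * y0 = y0 * gen 4 ∧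
    (∀ i, (pi0 * t0) i ≠ i) ∧ (pi0 * t0) * (pi0 * t0) = 1 ∧
    gen 0 = v0 * gen 2 * y0 * v0 * gen 2 * v0 * gen 2 ∧
    gen 4 * gen 2 = gen 2 * gen 4 ∧ (gen 0 * gen 4) * (gen 0 * gen 4) = 1 ∧
    gen 4 * gen 4 = 1 ∧ gen 2 * gen 2 = 1 ∧ gen 5 * y0 = y0 * gen 5 := by decide +kernel

theorem three_in_cent : ∀ τ : P5, τ * τ * τ = 1 → τ ≠ 1 →
    τ * (five (gen 3) * five c0) = (five (gen 3) * five c0) * τ →
    τ = swap 0 4 * swap 0 3 ∨ τ = (swap 0 4 * swap 0 3) * (swap 0 4 * swap 0 3) := by decide +kernel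

namespace Eight

variable {G : Type*} [Group G] {E : Eight G}

theorem exists_extra [Finite G] {L : E.Local} (F : E.Five L) : ∃ e : G, e ∈ E.H ∧ e ∉ E.G0 ∧ e * e = 1 ∧
    (E.J (gen 5) * e) ^ 3 = 1 ∧ (∀ i, i ≤ 4 → (E.J (gen i) * e) ^ 2 = 1) := by
  obtain ⟨p4, p5, pt, piy, pi4, pi3, pit, ty, g4y, plong, pinv, p0, p42, p04, p44, p22, g5y⟩ := perm_facts
  obtain ⟨vc, vu, vv, vy, vv1, vv2⟩ := five_values
  have hu : E.J (gen 3) ∈ E.H := E.J_mem_H (sign_gen 3) v0_facts.2.2.2.2.2.2.2.2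
  have hcs := sign_facts.2.2.2.2.2.1
  have hcH : E.J c0 ∈ E.H := E.J_mem_H hcs (by decide +kernel)
  have hv1H : E.J v1 ∈ E.H := E.J_mem_H sign_facts.2.2.2.1 (by decide +kernel)
  have hv2H : E.J v2 ∈ E.H := E.J_mem_H sign_facts.2.2.2.2.1 (by decide +kernel)
  have hv0H : E.J v0 ∈ E.H := E.J_mem_H sign_facts.2.2.1 v0_facts.2.1
  have ρ1 : F.ρ 1 = 1 := by
    have h := F.mul 1 (one_mem _) 1 (one_mem _)
    rw [mul_one] at h
    exact left_eq_mul.mp h
  have ρinv : ∀ g ∈ E.H, F.ρ g⁻¹ = (F.ρ g)⁻¹ := fun g hg => by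
    rw [eq_inv_iff_mul_eq_one, ← F.mul _ (inv_mem hg) _ hg, inv_mul_cancel, ρ1]
  have ρconj : ∀ g ∈ E.H, ∀ k ∈ L.K, F.ρ (g * k * g⁻¹) = F.ρ g * F.ρ k * (F.ρ g)⁻¹ := fun g hg k hk => by
    rw [F.mul _ (mul_mem hg (L.le hk)) _ (inv_mem hg), F.mul g hg k (L.le hk), ρinv g hg]
  have u2 : E.J (gen 3) * E.J (gen 3) = 1 := by
    rw [← E.J_mul (sign_gen 3) (sign_gen 3), v0_facts.2.2.2.2.2.2.2.1, J_one]
  have uinv : (E.J (gen 3))⁻¹ = E.J (gen 3) := inv_eq_of_mul_eq_one_right u2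
  have Ju : F.ρ (E.J (gen 3)) = swap 0 1 := (F.val _ (by simp)).trans vu
  -- the two elements of `K`
  obtain ⟨q, hq, hqe⟩ := F.lift (swap 0 1 * swap 3 4) (by decide +kernel)
  obtain ⟨r, hr, hre⟩ := F.lift (swap 0 4 * swap 0 3) (by decide +kernel)
  have hqu : E.J (gen 3) * q * (E.J (gen 3))⁻¹ = q := F.inj _ (F.normal _ hu _ hq) _ hq (by
    rw [ρconj _ hu _ hq, Ju, hqe]; decide +kernel)
  have cqu : Commute (E.J (gen 3)) q := mul_inv_eq_iff_eq_mul.mp hqu
  have hq2 : q * q = 1 := F.inj _ (mul_mem hq hq) _ (one_mem _) (by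
    rw [F.mul _ (L.le hq) _ (L.le hq), hqe, ρ1]; decide +kernel)
  set e := E.J (gen 3) * q with he
  have heH : e ∈ E.H := mul_mem hu (L.le hq)
  have he2 : e * e = 1 := by
    rw [he]
    calc E.J (gen 3) * q * (E.J (gen 3) * q) = E.J (gen 3) * (q * E.J (gen 3)) * q := by group
      _ = E.J (gen 3) * (E.J (gen 3) * q) * q := by rw [cqu.eq]
      _ = (E.J (gen 3) * E.J (gen 3)) * (q * q) := by group
      _ = 1 := by rw [u2, hq2, one_mul]
  have hρe : F.ρ e = swap 3 4 := by rw [he, F.mul _ hu _ (L.le hq), Ju, hqe]; decide +kernel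
  have heG : e ∉ E.G0 := fun h => by
    have := (F.stab e heH).mpr h
    rw [hρe] at this
    exact absurd this (by decide +kernel)
  have ce3 : Commute (E.J (gen 3)) e := (Commute.refl _).mul_right cqu
  -- `gen 4`
  have hc : E.J c0 ∈ L.K := L.a12_mem c0 (by decide +kernel)
  have hv1 : E.J v1 ∈ L.K := L.a12_mem v1 (by decide +kernel)
  have g4 : E.J (gen 4) = E.J (gen 3) * E.J c0 := by rw [p4, E.J_mul (sign_gen 3) hcs]
  have g4H : E.J (gen 4) ∈ E.H := g4 ▸ mul_mem hu hcH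
  have g4inv : (E.J (gen 4))⁻¹ = E.J (gen 4) := inv_eq_of_mul_eq_one_right (by
    rw [← E.J_mul (sign_gen 4) (sign_gen 4), p44, J_one])
  have ρ4 : F.ρ (E.J (gen 4)) = five (gen 3) * five c0 := by
    rw [g4, F.mul _ hu _ hcH, F.val _ (by simp), F.val _ (by simp)]
  have hq' : E.J (gen 4) * e ∈ L.K ∧ F.ρ (E.J (gen 4) * e) = five (gen 3) * five c0 * swap 3 4 := by
    refine ⟨?_, by rw [F.mul _ g4H _ heH, ρ4, hρe]⟩
    have : E.J (gen 4) * e = (E.J (gen 3) * E.J c0 * (E.J (gen 3))⁻¹) * q := by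
      rw [g4, he, uinv]; group
    rw [this]
    exact mul_mem (F.normal _ hu _ hc) hq
  have ce4 : Commute (E.J (gen 4)) e := by
    have h2 : e * E.J (gen 4) = q * E.J c0 := by
      rw [he, g4]
      calc E.J (gen 3) * q * (E.J (gen 3) * E.J c0) = E.J (gen 3) * (q * E.J (gen 3)) * E.J c0 := by group
        _ = _ := by rw [← cqu.eq, ← mul_assoc, u2, one_mul]
    show _ = _
    rw [h2]
    refine F.inj _ hq'.1 _ (mul_mem hq hc) ?_
    rw [hq'.2, F.mul _ (L.le hq) _ hcH, hqe, F.val _ (by simp)]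
    decide +kernel
  have cey : Commute E.y e := (E.mem_H.mp heH).symm
  -- `gen 5`
  have h5 : (E.J (gen 5) * e) ^ 3 = 1 := by
    have h51 : E.J (gen 5) * e = (E.J (gen 3) * E.J v1 * (E.J (gen 3))⁻¹) * q := by
      rw [p5, E.J_mul (sign_gen 3) sign_facts.2.2.2.1, he, uinv]; group
    have hm := mul_mem (F.normal _ hu _ hv1) hq
    rw [← h51] at hm
    refine F.inj _ (pow_mem hm 3) _ (one_mem _) ?_
    have hH := L.le hm
    rw [pow_succ, pow_two, F.mul _ (mul_mem hH hH) _ hH, F.mul _ hH _ hH, h51,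
      F.mul _ (L.le (F.normal _ hu _ hv1)) _ (L.le hq), ρconj _ hu _ hv1, Ju, hqe,
      F.val _ (by simp), ρ1]
    decide +kernel
  -- the permutation exchanging the short involutions fixes `r`
  set P := E.J pi0 with hP
  have hps := sign_facts.2.2.2.2.2.2.1
  have hts := sign_facts.2.2.2.2.2.2.2
  have r3 : r ^ 3 = 1 := F.inj _ (pow_mem hr 3) _ (one_mem _) (by
    have hH := L.le hr
    rw [pow_succ, pow_two, F.mul _ (mul_mem hH hH) _ hH, F.mul _ hH _ hH, hre, ρ1]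
    decide +kernel)
  have hr4 : Commute (E.J (gen 4)) r := mul_inv_eq_iff_eq_mul.mp (F.inj _ (F.normal _ g4H _ hr) _ hr (by
    rw [ρconj _ g4H _ hr, ρ4, hre]; decide +kernel))
  set r' := P * r * P⁻¹ with hr'
  have hPy : P * E.y * P⁻¹ = E.J (gen 4) := by rw [hP, E.J_conj hps sign_facts.2.1, piy]
  have hP4 : P * E.J (gen 4) * P⁻¹ = E.y := by rw [hP, E.J_conj hps (sign_gen 4), pi4]
  have hr'H : r' ∈ E.H := by
    have h := (Commute.conj_iff P).mpr hr4.symm
    rw [hP4] at h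
    exact E.mem_H.mpr h
  have hr'4 : Commute r' (E.J (gen 4)) := by
    have h := (Commute.conj_iff P).mpr (E.mem_H.mp (L.le hr))
    rwa [hPy] at h
  have hr'3 : r' ^ 3 = 1 := by rw [hr', conj_pow, r3, mul_one, mul_inv_cancel]
  have hr'K : r' ∈ L.K := L.odd_mem r' hr'H (by
    rcases (Nat.dvd_prime Nat.prime_three).mp (orderOf_dvd_of_pow_eq_one hr'3) with h | h <;> rw [h] <;>
      decide)
  have hr1 : r ≠ 1 := fun h => by rw [h, ρ1] at hre; exact absurd hre (by decide +kernel)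
  have side1 : F.ρ r' * F.ρ r' * F.ρ r' = 1 := by
    rw [← F.mul _ hr'H _ hr'H, ← F.mul _ (mul_mem hr'H hr'H) _ hr'H,
        show r' * r' * r' = r' ^ 3 by simp [pow_succ], hr'3, ρ1]
  have side2 : F.ρ r' ≠ 1 := by
    intro h
    have hr'1 : r' = 1 := F.inj _ hr'K _ (one_mem _) (h.trans ρ1.symm)
    rw [hr', conj_eq_one_iff] at hr'1
    exact hr1 hr'1
  have side3 : F.ρ r' * (five (gen 3) * five c0) = five (gen 3) * five c0 * F.ρ r' := by
    rw [← ρ4, ← F.mul _ hr'H _ g4H, hr'4.eq, F.mul _ g4H _ hr'H]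
  have hfix : r' = r := by
    rcases three_in_cent (F.ρ r') side1 side2 side3 with h | h
    · exact F.inj _ hr'K _ hr (h.trans hre.symm)
    · exfalso
      have hrr : r' = r * r := F.inj _ hr'K _ (mul_mem hr hr) (by
        rw [h, F.mul _ (L.le hr) _ (L.le hr), hre])
      have htH : E.J t0 ∈ E.H := E.J_mem_H hts ty
      have ρt : F.ρ (E.J t0) = five (gen 3) * (five v2 * five c0) := by
        rw [pt, E.J_mul (sign_gen 3) (by rw [map_mul, sign_facts.2.2.2.2.1, hcs]; rfl),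
          E.J_mul sign_facts.2.2.2.2.1 hcs, F.mul _ hu _ (mul_mem hv2H hcH), F.mul _ hv2H _ hcH,
          F.val _ (by simp), F.val _ (by simp), F.val _ (by simp)]
      have hrt : E.J t0 * r * (E.J t0)⁻¹ = r * r := F.inj _ (F.normal _ htH _ hr) _ (mul_mem hr hr) (by
        rw [ρconj _ htH _ hr, F.mul _ (L.le hr) _ (L.le hr), ρt, hre]; decide +kernel)
      have hz : Commute r (E.J (pi0 * t0)) := by
        have e1 : E.J (pi0 * t0) * r * (E.J (pi0 * t0))⁻¹ = r := by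
          rw [E.J_mul hps hts, ← hP, mul_inv_rev,
            show P * E.J t0 * r * ((E.J t0)⁻¹ * P⁻¹) = P * (E.J t0 * r * (E.J t0)⁻¹) * P⁻¹ by group, hrt,
            show P * (r * r) * P⁻¹ = (P * r * P⁻¹) * (P * r * P⁻¹) by group, ← hr', hrr]
          calc r * r * (r * r) = r ^ 3 * r := by simp [pow_succ, mul_assoc]
            _ = r := by rw [r3, one_mul]
        exact (mul_inv_eq_iff_eq_mul.mp e1).symm
      have hrG := E.mem_G0_of_commute_long (by rw [map_mul, hps, hts]; rfl) pinv plong hz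
      have := (F.stab r (L.le hr)).mpr hrG
      rw [hre] at this
      exact absurd this (by decide +kernel)
  have het : e = r * E.J t0 * r⁻¹ := by
    have hk : E.J (v2 * c0) ∈ L.K := L.a12_mem _ (by decide +kernel)
    have hks : Perm.sign (v2 * c0) = 1 := by rw [map_mul, sign_facts.2.2.2.2.1, hcs]; rfl
    have e1 : r * E.J t0 * r⁻¹ =
        E.J (gen 3) * ((E.J (gen 3) * r * (E.J (gen 3))⁻¹) * E.J (v2 * c0) * r⁻¹) := by
      rw [pt, E.J_mul (sign_gen 3) hks, uinv]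
      calc r * (E.J (gen 3) * E.J (v2 * c0)) * r⁻¹
          = (E.J (gen 3) * E.J (gen 3)) * r * E.J (gen 3) * E.J (v2 * c0) * r⁻¹ := by
            rw [u2, one_mul]; group
        _ = _ := by group
    rw [e1, he]
    congr 1
    refine F.inj _ hq _ (mul_mem (mul_mem (F.normal _ hu _ hr) hk) (inv_mem hr)) ?_
    rw [F.mul _ (mul_mem (L.le (F.normal _ hu _ hr)) (L.le hk)) _ (inv_mem (L.le hr)),
      F.mul _ (L.le (F.normal _ hu _ hr)) _ (L.le hk), ρconj _ hu _ hr, ρinv _ (L.le hr), Ju, hqe, hre,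
      E.J_mul sign_facts.2.2.2.2.1 hcs, F.mul _ hv2H _ hcH, F.val _ (by simp), F.val _ (by simp)]
    decide +kernel
  have hPe : P * e * P⁻¹ = e := by
    have hPt : P * E.J t0 * P⁻¹ = E.J t0 := by
      rw [hP, E.J_conj hps hts, pit, mul_inv_cancel_right]
    calc P * e * P⁻¹ = (P * r * P⁻¹) * (P * E.J t0 * P⁻¹) * (P * r * P⁻¹)⁻¹ := by rw [het]; group
      _ = e := by rw [← hr', hfix, hPt, ← het]
  have ce2 : Commute (E.J (gen 2)) e := by
    have h := (Commute.conj_iff P).mpr ce3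
    rwa [hPe, hP, E.J_conj hps (sign_gen 3), pi3] at h
  -- `gen 0`
  have cq0 : Commute (E.J (gen 4) * e) (E.J (gen 0)) := by
    have c2 : Commute (E.J (gen 4) * e) (E.J (gen 2)) :=
      (((E.J_commute (sign_gen 4) (sign_gen 2)).mpr p42).mul_left ce2.symm)
    have cv : Commute (E.J (gen 4) * e) (E.J v0) := by
      refine (mul_inv_eq_iff_eq_mul.mp (F.inj _ (F.normal _ hv0H _ hq'.1) _ hq'.1 ?_)).symm
      rw [ρconj _ hv0H _ hq'.1, F.val _ (by simp), vv, one_mul, inv_one, mul_one]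
    have cy : Commute (E.J (gen 4) * e) E.y := E.mem_H.mp (mul_mem g4H heH)
    have s0 := sign_facts.2.2.1
    have s1 := sign_facts.2.1
    have s2 := sign_gen 2
    rw [p0]
    simp only [E.J_mul, s0, s1, s2, map_mul, mul_one]
    exact (((((cv.mul_right c2).mul_right cy).mul_right cv).mul_right c2).mul_right cv).mul_right c2
  have h0 : (E.J (gen 0) * e) ^ 2 = 1 := by
    have hee : e = E.J (gen 4) * (E.J (gen 4) * e) := by
      rw [← mul_assoc, ← E.J_mul (sign_gen 4) (sign_gen 4), p44, J_one, one_mul]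
    have h04 : E.J (gen 4) * E.J (gen 0) * E.J (gen 4) = (E.J (gen 0))⁻¹ := by
      have : E.J (gen 0) * E.J (gen 4) * (E.J (gen 0) * E.J (gen 4)) = 1 := by
        have h04s : Perm.sign (gen 0 * gen 4) = 1 := by rw [map_mul, sign_gen, sign_gen]; rfl
        rw [← E.J_mul (sign_gen 0) (sign_gen 4), ← E.J_mul h04s h04s, p04, J_one]
      refine eq_inv_of_mul_eq_one_right ?_
      simpa [mul_assoc] using this
    have heI : e * E.J (gen 0) * e = (E.J (gen 0))⁻¹ := by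
      set q4 := E.J (gen 4) * e with hq4
      have hq44 : q4 * q4 = 1 := by
        rw [hq4]
        calc E.J (gen 4) * e * (E.J (gen 4) * e) = E.J (gen 4) * (e * E.J (gen 4)) * e := by group
          _ = E.J (gen 4) * E.J (gen 4) * (e * e) := by rw [← ce4.eq]; group
          _ = 1 := by rw [← E.J_mul (sign_gen 4) (sign_gen 4), p44, J_one, he2, one_mul]
      calc e * E.J (gen 0) * e = E.J (gen 4) * (q4 * E.J (gen 0)) * e := by
            nth_rewrite 1 [hee]; group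
        _ = E.J (gen 4) * (E.J (gen 0) * q4) * e := by rw [cq0.eq]
        _ = E.J (gen 4) * E.J (gen 0) * E.J (gen 4) * (e * e) := by rw [hq4]; group
        _ = _ := by rw [he2, mul_one, h04]
    rw [pow_two, mul_assoc, ← mul_assoc e, heI, mul_inv_cancel]
  refine ⟨e, heH, heG, he2, h5, fun i hi => ?_⟩
  have hsq : ∀ g : G, g * g = 1 → Commute g e → (g * e) ^ 2 = 1 := fun g hg hc => by
    rw [hc.mul_pow, pow_two, pow_two, hg, he2, one_mul]
  have gsq : ∀ j : ℕ, gen j * gen j = 1 → E.J (gen j) * E.J (gen j) = 1 := fun j hj => by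
    rw [← E.J_mul (sign_gen j) (sign_gen j), hj, J_one]
  rcases (show i = 0 ∨ i = 1 ∨ i = 2 ∨ i = 3 ∨ i = 4 by omega) with rfl | rfl | rfl | rfl | rfl
  · exact h0
  · exact hsq _ E.y_sq cey
  · exact hsq _ (gsq 2 p22) ce2
  · exact hsq _ u2 ce3
  · exact hsq _ (gsq 4 p44) ce4

end Eight

end H78.EightNine
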