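import Cfsg.Agent.H78.EightNine.Extra
import Cfsg.Agent.H78.EightNine.Generation
import Cfsg.Agent.H59.Carmichael
import Mathlib.GroupTheory.Perm.Sign

/-! The group is the copy, or the alternating group of degree 9. -/

set_option autoImplicit false
set_option maxRecDepth 20000

namespace H78.EightNine

open Equiv

namespace Eight

variable {G : Type*} [Group G] (E : Eight G)

theorem normal_eq {N : Subgroup A8} (hN : N.Normal) : N = ⊥ ∨ N = ⊤ :=
  have : IsSimpleGroup A8 := alternatingGroup.isSimpleGroup (by norm_num)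
  hN.eq_bot_or_eq_top

theorem odd_index [Finite G] : Odd E.G0.index := by
  have : Fintype (G ⧸ E.G0) := Fintype.ofFinite _
  classical
  have : Fact (Nat.Prime 2) := ⟨Nat.prime_two⟩
  set π := MulAction.toPermHom G (G ⧸ E.G0) E.s with hπ
  have hfix : ∀ q : G ⧸ E.G0, π q ≠ q ↔ q ≠ ((1 : G) : G ⧸ E.G0) := by
    intro q
    obtain ⟨g, rfl⟩ := QuotientGroup.mk_surjective q
    refine not_congr ?_
    show ((E.s * g : G) : G ⧸ E.G0) = (g : G ⧸ E.G0) ↔ _
    rw [QuotientGroup.eq, QuotientGroup.eq, mul_one]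
    constructor
    · intro h
      refine E.mem_G0_of_conj (g := g⁻¹) ?_
      have e : g⁻¹ * E.s * g⁻¹⁻¹ = ((E.s * g)⁻¹ * g)⁻¹ := by group
      rw [e]
      exact inv_mem h
    · intro h
      exact mul_mem (inv_mem (mul_mem (E.J_mem _) (inv_inv g ▸ inv_mem h))) (inv_inv g ▸ inv_mem h)
  rw [Subgroup.index_eq_card, Nat.card_eq_fintype_card]
  have hsupp : π.support = Finset.univ.erase ((1 : G) : G ⧸ E.G0) := by
    ext q; simp [Perm.mem_support, hfix q]
  by_cases h1 : π = 1
  · have : π.support.card = 0 := by rw [h1]; simp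
    rw [hsupp, Finset.card_erase_of_mem (Finset.mem_univ _), Finset.card_univ] at this
    have := Fintype.card_pos (α := G ⧸ E.G0)
    rw [show Fintype.card (G ⧸ E.G0) = 1 by omega]
    exact odd_one
  have hord : orderOf π = 2 := orderOf_eq_prime (by rw [hπ, ← map_pow, pow_two, E.s_sq, map_one]) h1
  obtain ⟨n, hn⟩ := Equiv.Perm.cycleType_prime_order (σ := π) (hord.symm ▸ Nat.prime_two)
  have hsum := Equiv.Perm.sum_cycleType π
  rw [hn, hord, Multiset.sum_replicate, hsupp, Finset.card_erase_of_mem (Finset.mem_univ _),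
    Finset.card_univ, smul_eq_mul] at hsum
  exact ⟨n + 1, by omega⟩

/-- A subgroup containing the copy and the centralizer of the short involution is everything. -/
theorem eq_top_of_le [Finite G] {S : Subgroup G} (h0 : E.G0 ≤ S) (hy : E.H ≤ S) : S = ⊤ := by
  have : Fact (Nat.Prime 2) := ⟨Nat.prime_two⟩
  -- centralizers of involutions of the copy
  have hcent : ∀ z ∈ E.G0, z * z = 1 → z ≠ 1 → ∀ g, Commute g z → g ∈ S := by
    intro z hz hz2 hz1 g hg
    obtain ⟨p, hp, rfl⟩ := E.mem_G0.mp hz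
    have hp2 : p * p = 1 := E.J_inj (by rw [map_mul, hp]; rfl) (map_one _) (by
      rw [E.J_mul hp hp, hz2, J_one])
    rcases E.conj_cases hp hp2 (fun e => hz1 (by rw [e, J_one])) with ⟨hi, -⟩ | ⟨-, k, hk, hke⟩
    · exact h0 (E.mem_G0_of_commute_long hp hp2 hi hg)
    · have hh : k⁻¹ * g * k ∈ E.H := by
        refine E.mem_H.mpr ?_
        have h' := (Commute.conj_iff k⁻¹).mpr hg
        rw [inv_inv, ← hke] at h'
        have e : k⁻¹ * (k * E.y * k⁻¹) * k = E.y := by group
        rwa [e] at h'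
      have := mul_mem (mul_mem (h0 hk) (hy hh)) (inv_mem (h0 hk))
      simpa [mul_assoc] using this
  -- all conjugates of the short involution
  have hyall : ∀ v : G, IsConj E.y v → v ∈ S := by
    intro v hv
    obtain ⟨g, hg⟩ := isConj_iff.mp hv
    have hv2 : v * v = 1 := by rw [← hg, conj_mul, E.y_sq, mul_one, mul_inv_cancel]
    have hv1 : v ≠ 1 := by
      rw [← hg, ne_eq, conj_eq_one_iff]
      intro e
      exact sg_facts.2.2.2.2.2.2.1 (E.J_inj sign_facts.2.1 (map_one _) (e.trans E.J_one.symm))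
    set n := orderOf (E.s * v) with hn
    have hinv : E.s * (E.s * v) * E.s⁻¹ = (E.s * v)⁻¹ := by
      rw [mul_inv_rev, inv_eq_of_mul_eq_one_right hv2, inv_eq_of_mul_eq_one_right E.s_sq,
        show E.s * (E.s * v) * E.s = (E.s * E.s) * (v * E.s) by group, E.s_sq, one_mul]
    have hconjpow : ∀ k : ℕ, E.s * (E.s * v) ^ k * E.s⁻¹ = ((E.s * v) ^ k)⁻¹ := fun k => by
      rw [← conj_pow, hinv, inv_pow]
    rcases Nat.even_or_odd n with ⟨k, hk⟩ | ⟨k, hk⟩
    · set z := (E.s * v) ^ k with hz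
      have hz2 : z * z = 1 := by rw [hz, ← pow_add, ← hk, pow_orderOf_eq_one]
      have hkpos : 0 < k := by
        have := (isOfFinOrder_of_finite (E.s * v)).orderOf_pos
        omega
      have hz1 : z ≠ 1 := pow_ne_one_of_lt_orderOf (by omega) (by omega)
      have hzs : Commute E.s z := by
        have := hconjpow k
        rw [← hz, inv_eq_of_mul_eq_one_right hz2] at this
        exact mul_inv_eq_iff_eq_mul.mp this
      have hzv : Commute v z := by
        have h1 : Commute (E.s * v) z := (Commute.refl _).pow_right k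
        have h2 := hzs.inv_left.mul_left h1
        rwa [inv_mul_cancel_left] at h2
      exact hcent z (E.mem_G0_of_commute_s hzs.symm) hz2 hz1 v hzv
    · exfalso
      apply E.not_conj'
      refine IsConj.trans ?_ hv.symm
      refine isConj_iff.mpr ⟨((E.s * v) ^ (k + 1))⁻¹, ?_⟩
      rw [inv_inv]
      calc ((E.s * v) ^ (k + 1))⁻¹ * E.s * (E.s * v) ^ (k + 1)
          = (E.s * (E.s * v) ^ (k + 1) * E.s⁻¹) * E.s * (E.s * v) ^ (k + 1) := by rw [hconjpow]
        _ = E.s * ((E.s * v) ^ (k + 1) * (E.s * v) ^ (k + 1)) := by group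
        _ = E.s * (E.s * v) := by
          rw [← pow_add, show k + 1 + (k + 1) = n + 1 by omega, pow_succ, hn, pow_orderOf_eq_one, one_mul]
        _ = v := by rw [← mul_assoc, E.s_sq, one_mul]
  set N := Subgroup.normalClosure ({E.y} : Set G) with hN
  have hNS : N ≤ S := by
    rw [hN]
    refine (Subgroup.closure_le _).mpr fun v hv => ?_
    obtain ⟨_, rfl, hc⟩ := Group.mem_conjugatesOfSet_iff.mp hv
    exact hyall v hc
  have hsN : E.s ∈ N := by
    have hyN : E.y ∈ N := Subgroup.subset_normalClosure rfl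
    have hM : (N.comap E.j).Normal := Subgroup.Normal.comap (Subgroup.normalClosure_normal) E.j
    rcases normal_eq hM with hb | ht
    · have : yA ∈ N.comap E.j := by rw [Subgroup.mem_comap, ← E.y_eq]; exact hyN
      rw [hb, Subgroup.mem_bot] at this
      exact absurd (congrArg Subtype.val this) sg_facts.2.2.2.2.2.2.1
    · have : sgA ∈ N.comap E.j := ht ▸ Subgroup.mem_top _
      rwa [Subgroup.mem_comap, ← E.s_eq] at this
  rw [eq_top_iff]
  rintro g -
  set u := g * E.s * g⁻¹ with hu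
  have huS : u ∈ S := hNS (Subgroup.normalClosure_normal.conj_mem _ hsN g)
  -- `u` fixes a coset of the copy in `S`
  have : Fintype (S ⧸ E.G0.subgroupOf S) := Fintype.ofFinite _
  classical
  have hodd : ¬ 2 ∣ Fintype.card (S ⧸ E.G0.subgroupOf S) := by
    rw [← Nat.card_eq_fintype_card, ← Subgroup.index_eq_card]
    intro h2
    have hd : (E.G0.subgroupOf S).index ∣ E.G0.index := Subgroup.relIndex_dvd_index_of_le h0
    exact (Nat.not_even_iff_odd.mpr E.odd_index) (even_iff_two_dvd.mpr (h2.trans hd))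
  set π := MulAction.toPermHom S (S ⧸ E.G0.subgroupOf S) ⟨u, huS⟩ with hπ
  obtain ⟨q, hq⟩ : ∃ q, π q = q := by
    obtain ⟨q, hq⟩ := Equiv.Perm.exists_fixed_point_of_prime (n := 1) (p := 2) hodd (σ := π) (by
      rw [pow_one, hπ, ← map_pow, show (⟨u, huS⟩ : S) ^ 2 = 1 from Subtype.ext (by
        show u ^ 2 = 1; rw [hu, conj_pow, pow_two, E.s_sq, mul_one, mul_inv_cancel]), map_one])
    exact ⟨q, hq⟩
  obtain ⟨h, rfl⟩ := QuotientGroup.mk_surjective q
  have h1 : ((⟨u, huS⟩ * h : S) : S ⧸ E.G0.subgroupOf S) = (h : S ⧸ E.G0.subgroupOf S) := hq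
  rw [QuotientGroup.eq, Subgroup.mem_subgroupOf] at h1
  have h2 : ((h : G)⁻¹ * g) * E.s * ((h : G)⁻¹ * g)⁻¹ ∈ E.G0 := by
    have h1' : ((u * (h : G))⁻¹ * h) ∈ E.G0 := h1
    have h1'' := inv_mem h1'
    rw [hu] at h1''
    simpa [mul_assoc] using h1''
  simpa using mul_mem h.2 (h0 (E.mem_G0_of_conj h2))

theorem eight_or_nine (E : Eight G) [Finite G] :
    Nonempty (G ≃* alternatingGroup (Fin 8)) ∨ Nonempty (G ≃* alternatingGroup (Fin 9)) := by
  have hcopy : E.G0 = ⊤ → Nonempty (G ≃* alternatingGroup (Fin 8)) := fun h =>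
    ⟨(Subgroup.topEquiv.symm.trans ((MulEquiv.subgroupCongr h).symm.trans
      (MonoidHom.ofInjective E.inj).symm))⟩
  obtain ⟨L⟩ := E.exists_local
  rcases le_or_five (E := E) L with hle | ⟨⟨F⟩⟩
  · exact Or.inl (hcopy (E.eq_top_of_le le_rfl hle))
  by_cases hG0 : E.G0 = ⊤
  · exact Or.inl (hcopy hG0)
  right
  obtain ⟨e, heH, heG, he2, h5, hfar⟩ := exists_extra F
  let x : ℕ → G := fun i => if i < 6 then E.J (gen i) else e
  have hxJ : ∀ i, i < 6 → x i = E.J (gen i) := fun i hi => if_pos hi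
  have hx6 : x 6 = e := if_neg (by norm_num)
  have hpow : ∀ (p : P8) (k : ℕ), Perm.sign p = 1 → p ^ k = 1 → E.J p ^ k = 1 := by
    intro p k hp h
    rw [show E.J p = E.j ⟨p, hp⟩ from E.J_coe ⟨p, hp⟩, ← map_pow, show (⟨p, hp⟩ : A8) ^ k = 1 from Subtype.ext h, map_one]
  have hsix : ∀ i : Fin 6, (i.val = 0 → gen i.val ^ 3 = 1) ∧ (i.val ≠ 0 → gen i.val ^ 2 = 1) ∧
      (i.val + 1 < 6 → (gen i.val * gen (i.val + 1)) ^ 3 = 1) ∧
      ∀ j : Fin 6, i.val + 1 < j.val → (gen i.val * gen j.val) ^ 2 = 1 := by decide +kernel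
  have hmulsgn : ∀ i j, Perm.sign (gen i * gen j) = 1 := fun i j => by
    rw [map_mul, sign_gen, sign_gen]; rfl
  have hC : H59.Carm x 7 := by
    refine ⟨fun _ => ?_, fun i h1 h7 => ?_, fun i h7 => ?_, fun i j hij hj => ?_⟩
    · rw [hxJ 0 (by norm_num)]
      exact hpow _ 3 (sign_gen 0) ((hsix 0).1 rfl)
    · by_cases h6 : i < 6
      · rw [hxJ i h6]
        exact hpow _ 2 (sign_gen i) ((hsix ⟨i, h6⟩).2.1 (by omega : i ≠ 0))
      · rw [show i = 6 by omega, hx6, pow_two, he2]
    · by_cases h5' : i + 1 < 6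
      · rw [hxJ i (by omega), hxJ (i + 1) h5', ← E.J_mul (sign_gen _) (sign_gen _)]
        exact hpow _ 3 (hmulsgn _ _) ((hsix ⟨i, by omega⟩).2.2.1 h5')
      · rw [show i = 5 by omega, hxJ 5 (by norm_num), hx6]
        exact h5
    · by_cases h6 : j < 6
      · rw [hxJ i (by omega), hxJ j h6, ← E.J_mul (sign_gen _) (sign_gen _)]
        exact hpow _ 2 (hmulsgn _ _) ((hsix ⟨i, by omega⟩).2.2.2 ⟨j, h6⟩ hij)
      · rw [show j = 6 by omega, hx6, hxJ i (by omega)]
        exact hfar i (by omega)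
  set S := Subgroup.closure (x '' Set.Iio 7) with hS
  have hxS : ∀ i, i < 7 → x i ∈ S := fun i hi => Subgroup.subset_closure ⟨i, hi, rfl⟩
  have h0S : E.G0 ≤ S := by
    intro g hg
    obtain ⟨p, hp, rfl⟩ := E.mem_G0.mp hg
    have key : ∀ q ∈ Subgroup.closure (gen '' Set.Iio 6), Perm.sign q = 1 ∧ E.J q ∈ S := by
      intro q hq
      induction hq using Subgroup.closure_induction with
      | mem q hq =>
        obtain ⟨i, hi, rfl⟩ := hq
        exact ⟨sign_gen i, hxJ i hi ▸ hxS i (Nat.lt_succ_of_lt hi)⟩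
      | one => exact ⟨map_one _, E.J_one.symm ▸ one_mem S⟩
      | mul a b _ _ iha ihb =>
        exact ⟨by rw [map_mul, iha.1, ihb.1]; rfl, E.J_mul iha.1 ihb.1 ▸ mul_mem iha.2 ihb.2⟩
      | inv a _ iha => exact ⟨by rw [map_inv, iha.1]; rfl, E.J_inv iha.1 ▸ inv_mem iha.2⟩
    exact (key p (mem_closure_gen hp)).2
  have heS : e ∈ S := hx6 ▸ hxS 6 (by norm_num)
  have hHS : E.H ≤ S := by
    have hK : ∀ k ∈ L.K, k ∈ S := by
      -- the part in `S` is more than the part in the copy
      have hlt : ¬ E.H ⊓ S ≤ E.H ⊓ E.G0 := fun h => heG (h ⟨heH, heS⟩).2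
      have h96 : 96 ≤ Nat.card ↥(E.H ⊓ E.G0) := by
        have := E.le_card_of_list c96_facts.1 (fun p hp => (c96_facts.2.2 p hp).1) (c96_mem E)
        rwa [c96_facts.2.1] at this
      have hsub : E.H ⊓ E.G0 ≤ E.H ⊓ S := inf_le_inf_left _ h0S
      obtain ⟨a, ha⟩ := Subgroup.card_dvd_of_le hsub
      obtain ⟨b, hb⟩ := Subgroup.card_dvd_of_le (inf_le_left : E.H ⊓ S ≤ E.H)
      have hcard : Nat.card E.H ∣ 480 := by
        have h := L.card
        rcases L.twelve_or_sixty with e | e <;> rw [h, e] <;> norm_num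
      have hne : Nat.card ↥(E.H ⊓ S) ≠ Nat.card ↥(E.H ⊓ E.G0) := fun hh =>
        hlt (Subgroup.eq_of_le_of_card_ge hsub hh.le).ge
      have h32 : 96 ∣ Nat.card ↥(E.H ⊓ E.G0) → Nat.card ↥(E.H ⊓ S) = Nat.card E.H := by
        rintro ⟨c, hc⟩
        have ha1 : a ≠ 1 := fun h => hne (by rw [ha, h, mul_one])
        rw [ha, hc] at hb
        have hcab : c * a * b = 1 ∨ c * a * b = 5 := by
          rcases L.twelve_or_sixty with e | e
          · left
            have : 96 * (c * a * b) = 96 * 1 := by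
              rw [L.card, e] at hb; linarith
            omega
          · right
            have : 96 * (c * a * b) = 96 * 5 := by
              rw [L.card, e] at hb; linarith
            omega
        have hb1 : b = 1 := by
          rcases hcab with h1 | h5'
          · exact Nat.eq_one_of_mul_eq_one_left h1
          · rcases (Nat.dvd_prime Nat.prime_five).mp ⟨b, h5'.symm⟩ with e5 | e5
            · exact absurd (Nat.eq_one_of_mul_eq_one_left e5) ha1
            · rw [e5] at h5'; omega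
        rw [hb, hb1, mul_one, ha, hc]
      intro k hk
      have h96d : 96 ∣ Nat.card ↥(E.H ⊓ E.G0) := by
        have h32 : 32 ∣ Nat.card ↥(E.H ⊓ E.G0) := by
          have h := Subgroup.card_dvd_of_le (show E.H ⊓ Subgroup.centralizer ({E.s} : Set G) ≤ E.H ⊓ E.G0 from
            fun g hg => ⟨hg.1, E.mem_G0_of_commute_s (Subgroup.mem_centralizer_singleton_iff.mp hg.2)⟩)
          rwa [E.card_of_list t32_facts.1 (fun p hp => (t32_facts.2.2 p hp).1) (fun g => E.mem_H_inf_s),
            t32_facts.2.1] at h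
        have hd3 : 3 ∣ Nat.card ↥(E.H ⊓ E.G0) := by
          have hs := sign_facts.2.2.2.2.2.1
          have ho : orderOf (E.J c0) = 3 := by
            have : Fact (Nat.Prime 3) := ⟨Nat.prime_three⟩
            exact orderOf_eq_prime (hpow _ 3 hs odd_facts.1) fun e =>
              absurd (E.J_inj hs (map_one _) (e.trans E.J_one.symm)) (by decide +kernel)
          rw [← ho, ← Subgroup.orderOf_mk (E.J c0) (show E.J c0 ∈ E.H ⊓ E.G0 from
            c96_mem E c0 (by decide +kernel))]
          exact orderOf_dvd_natCard _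
        exact Nat.Coprime.mul_dvd_of_dvd_of_dvd (by decide : Nat.Coprime 32 3) h32 hd3
      have := Subgroup.eq_of_le_of_card_ge (inf_le_left : E.H ⊓ S ≤ E.H) (h32 h96d).ge
      exact (this.symm ▸ L.le hk : k ∈ E.H ⊓ S).2
    intro g hg
    by_contra hgS
    obtain ⟨σ, hσ, hkey⟩ : ∃ σ : G, σ ∈ E.H ⊓ E.G0 ∧ ∃ k ∈ L.K, g = σ * k := by
      obtain ⟨k, hk, hkρ⟩ : ∃ k ∈ L.K, F.ρ k 4 = (F.ρ g⁻¹) 4 := by
        obtain ⟨τ, hτ, hτ4⟩ : ∃ τ : P5, Perm.sign τ = 1 ∧ τ 4 = (F.ρ g⁻¹) 4 :=
          (show ∀ i : Fin 5, ∃ τ : P5, Perm.sign τ = 1 ∧ τ 4 = i by decide +kernel) _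
        obtain ⟨k, hk, hke⟩ := F.lift τ hτ
        exact ⟨k, hk, by rw [hke, hτ4]⟩
      refine ⟨g * k, ⟨mul_mem hg (L.le hk), ?_⟩, k⁻¹, inv_mem hk, by group⟩
      refine (F.stab _ (mul_mem hg (L.le hk))).mp ?_
      rw [F.mul _ hg _ (L.le hk), Perm.mul_apply, hkρ, ← Perm.mul_apply, ← F.mul _ hg _ (inv_mem hg),
        mul_inv_cancel]
      have h1 := F.mul 1 (one_mem _) 1 (one_mem _)
      rw [mul_one] at h1
      rw [left_eq_mul.mp h1]
      rfl
    obtain ⟨k, hk, rfl⟩ := hkey
    exact hgS (mul_mem (h0S hσ.2) (hK k hk))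
  have htop : S = ⊤ := E.eq_top_of_le h0S hHS
  obtain ⟨hfin, hidx⟩ := H59.index_le_carmichael x 7 (by norm_num) hC E.G0
    (fun i hi => by rw [hxJ i (by omega)]; exact E.J_mem _) htop
  -- the action on the cosets
  have : Fintype (G ⧸ E.G0) := Fintype.ofFinite _
  classical
  set n := E.G0.index with hn
  have hodd := E.odd_index
  have hG : Nat.card G = 20160 * n := by
    have h := Subgroup.card_mul_index E.G0
    have h8 : Nat.card E.G0 = 20160 := by
      rw [← Nat.card_congr (MonoidHom.ofInjective E.inj).toEquiv, nat_card_alternatingGroup, Nat.card_fin]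
      decide
    rw [← h, h8]
  let π : G →* Perm (G ⧸ E.G0) := MulAction.toPermHom G (G ⧸ E.G0)
  have hker : π.ker = ⊥ := by
    rw [show π.ker = E.G0.normalCore from (Subgroup.normalCore_eq_ker E.G0).symm]
    have hM : (E.G0.normalCore.comap E.j).Normal := Subgroup.normalCore_normal E.G0 |>.comap E.j
    rcases normal_eq hM with hb | ht
    · rw [eq_bot_iff]
      intro g hg
      obtain ⟨a, rfl⟩ := E.G0.normalCore_le hg
      have : a ∈ E.G0.normalCore.comap E.j := hg
      rw [hb, Subgroup.mem_bot] at this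
      rw [this, map_one]
      exact one_mem _
    · exfalso
      apply hG0
      rw [eq_top_iff]
      rintro g -
      have : E.s ∈ E.G0.normalCore := by
        have h' : sgA ∈ E.G0.normalCore.comap E.j := ht ▸ Subgroup.mem_top _
        rwa [Subgroup.mem_comap, ← E.s_eq] at h'
      exact E.mem_G0_of_conj (E.G0.normalCore_le ((Subgroup.normalCore_normal E.G0).conj_mem _ this g))
  have hinj : Function.Injective π := (MonoidHom.ker_eq_bot_iff π).mp hker
  have hn1 : n ≠ 1 := fun h => hG0 (Subgroup.index_eq_one.mp h)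
  have hdvd : 20160 * n ∣ Nat.factorial n := by
    rw [← hG, hn, Subgroup.index_eq_card, ← Nat.card_perm]
    exact Subgroup.card_dvd_of_injective π hinj
  have hn9 : n = 9 := by
    have hle : n ≤ 9 := hidx
    have hpos : 0 < n := by rw [hn, Subgroup.index_eq_card]; exact Nat.card_pos
    obtain ⟨k, hk⟩ := hodd
    rcases (show n = 3 ∨ n = 5 ∨ n = 7 ∨ n = 9 by omega) with h | h | h | h
    · rw [h] at hdvd; norm_num [Nat.factorial] at hdvd
    · rw [h] at hdvd; norm_num [Nat.factorial] at hdvd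
    · rw [h] at hdvd; norm_num [Nat.factorial] at hdvd
    · exact h
  have h9 : Fintype.card (G ⧸ E.G0) = 9 := by
    rw [← Nat.card_eq_fintype_card, ← Subgroup.index_eq_card, ← hn, hn9]
  let ψ : G →* Perm (Fin 9) := (Fintype.equivFinOfCardEq h9).permCongrHom.toMonoidHom.comp π
  have hψ : Function.Injective ψ := (Fintype.equivFinOfCardEq h9).permCongrHom.injective.comp hinj
  have hr : ψ.range = alternatingGroup (Fin 9) := by
    apply Equiv.Perm.eq_alternatingGroup_of_index_eq_two
    have h := Subgroup.card_mul_index ψ.range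
    rw [← Nat.card_congr (MonoidHom.ofInjective hψ).toEquiv, hG, hn9, Nat.card_perm, Nat.card_fin] at h
    norm_num [Nat.factorial] at h
    omega
  exact ⟨(MonoidHom.ofInjective hψ).trans (MulEquiv.subgroupCongr hr)⟩

end Eight

end H78.EightNine
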