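import Cfsg.Agent.H78.EightNine.Local
import Mathlib.GroupTheory.GroupAction.Quotient
import Mathlib.GroupTheory.SpecificGroups.Alternating

/-!
If the centralizer of the short involution is not in the copy, it acts as the symmetric group on the
five cosets, the subgroup of order 60 as the alternating one.
-/

set_option autoImplicit false
set_option maxRecDepth 20000

namespace H78.EightNine

open Equiv

abbrev P5 := Perm (Fin 5)

/-- The translation moving the fourth point to the given one. -/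
def w : Fin 5 → P8
  | 0 => v1 * v2
  | 1 => v2
  | 2 => v1
  | _ => 1

theorem w_facts : (∀ i : Fin 5, Perm.sign (w i) = 1 ∧ w i ∈ v4) ∧
    (∀ i j : Fin 5, i ≠ 4 → j ≠ 4 → w i = w j → i = j) := by decide +kernel

/-- The image of a normalizing or translating permutation. -/
def five : P8 → P5 := fun p =>
  if p = c0 then swap 0 2 * swap 0 1 else if p = gen 3 then swap 0 1
  else if p = v1 then swap 0 1 * swap 2 3 else if p = v2 then swap 0 2 * swap 1 3 else 1

theorem five_norm : ∀ p ∈ [c0, gen 3, v0, y0],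
    five p 4 = 4 ∧ five p 3 = 3 ∧ (∀ i : Fin 5, i ≠ 4 → p * w i * p⁻¹ = w (five p i)) ∧
    (p⁻¹ * c0 * p = c0 ∨ p⁻¹ * c0 * p = c0 * c0) ∧ Perm.sign p = 1 ∧ p * y0 = y0 * p :=
  forall_mem_of_all (by decide +kernel)

theorem five_trans : ∀ p ∈ [v1, v2],
    five p 4 = 4 ∧ (∀ i : Fin 5, i ≠ 4 → p * w i = w (five p i)) ∧ Perm.sign p = 1 ∧ p * y0 = y0 * p :=
  forall_mem_of_all (by decide +kernel)

theorem five_values : five c0 = swap 0 2 * swap 0 1 ∧ five (gen 3) = swap 0 1 ∧ five v0 = 1 ∧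
    five y0 = 1 ∧ five v1 = swap 0 1 * swap 2 3 ∧ five v2 = swap 0 2 * swap 1 3 := by decide +kernel

theorem a12_faithful : ∀ a ∈ [(1 : P8), v1, v2, v1 * v2], ∀ b ∈ [(1 : P8), c0, c0 * c0],
    (if a = v1 * v2 then five v1 * five v2 else five a) *
      (if b = c0 * c0 then five c0 * five c0 else five b) = 1 → a * b = 1 := by
  have h : ∀ a ∈ [(1 : P8), v1, v2, v1 * v2], ([(1 : P8), c0, c0 * c0].all fun b => decide
    ((if a = v1 * v2 then five v1 * five v2 else five a) *
      (if b = c0 * c0 then five c0 * five c0 else five b) = 1 → a * b = 1)) = true :=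
    forall_mem_of_all (by decide +kernel)
  exact fun a ha b hb => of_decide_eq_true (List.all_eq_true.mp (h a ha) b hb)

namespace Eight

variable {G : Type*} [Group G] {E : Eight G}

/-- The action on five points. -/
structure Five (E : Eight G) (L : E.Local) where
  ρ : G → P5
  mul : ∀ g ∈ E.H, ∀ h ∈ E.H, ρ (g * h) = ρ g * ρ h
  val : ∀ p ∈ [c0, gen 3, v0, y0, v1, v2], ρ (E.J p) = five p
  stab : ∀ g ∈ E.H, ρ g 4 = 4 ↔ g ∈ E.G0
  inj : ∀ g ∈ L.K, ∀ h ∈ L.K, ρ g = ρ h → g = h
  lift : ∀ σ : P5, Perm.sign σ = 1 → ∃ k ∈ L.K, ρ k = σ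
  normal : ∀ g ∈ E.H, ∀ k ∈ L.K, g * k * g⁻¹ ∈ L.K

theorem c96_mem (E : Eight G) : ∀ p ∈ c96, E.J p ∈ E.H ⊓ E.G0 := fun p hp =>
  ⟨E.J_mem_H (c96_facts.2.2 p hp).1 (c96_facts.2.2 p hp).2, E.J_mem p⟩

theorem le_or_five [Finite G] (L : E.Local) : E.H ≤ E.G0 ∨ Nonempty (E.Five L) := by
  classical
  by_cases hle : E.H ≤ E.G0
  · exact Or.inl hle
  right
  have h96 : 96 ≤ Nat.card ↥(E.H ⊓ E.G0) := by
    have := E.le_card_of_list c96_facts.1 (fun p hp => (c96_facts.2.2 p hp).1) (c96_mem E)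
    rwa [c96_facts.2.1] at this
  have hlt : Nat.card ↥(E.H ⊓ E.G0) < Nat.card E.H := by
    refine lt_of_le_of_ne (Subgroup.card_le_of_le inf_le_left) fun h => hle ?_
    rw [← inf_eq_left]
    exact Subgroup.eq_of_le_of_card_ge inf_le_left h.ge
  have hd : Nat.card ↥(E.H ⊓ E.G0) ∣ Nat.card E.H := Subgroup.card_dvd_of_le inf_le_left
  have hK60 : Nat.card L.K = 60 := by
    rcases L.twelve_or_sixty with e | e
    · have := L.card; omega
    · exact e
  have hH : Nat.card E.H = 480 := by have := L.card; omega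
  have h32 : 32 ∣ Nat.card ↥(E.H ⊓ E.G0) := by
    have h := Subgroup.card_dvd_of_le (show E.H ⊓ Subgroup.centralizer ({E.s} : Set G) ≤ E.H ⊓ E.G0 from
      fun g hg => ⟨hg.1, E.mem_G0_of_commute_s (Subgroup.mem_centralizer_singleton_iff.mp hg.2)⟩)
    rwa [E.card_of_list t32_facts.1 (fun p hp => (t32_facts.2.2 p hp).1) (fun g => E.mem_H_inf_s),
      t32_facts.2.1] at h
  have h3 : 3 ∣ Nat.card ↥(E.H ⊓ E.G0) := by
    have hs := sign_facts.2.2.2.2.2.1
    have ho : orderOf (E.J c0) = 3 := by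
      have : Fact (Nat.Prime 3) := ⟨Nat.prime_three⟩
      refine orderOf_eq_prime ?_ fun e => absurd (E.J_inj hs (map_one _) (e.trans E.J_one.symm))
        (by decide +kernel)
      rw [pow_succ, pow_two, ← E.J_mul hs hs, ← E.J_mul (by rw [map_mul, hs]; rfl) hs]
      have := odd_facts.1
      rw [pow_succ, pow_two] at this
      rw [this, J_one]
    rw [← ho, ← Subgroup.orderOf_mk (E.J c0) (show E.J c0 ∈ E.H ⊓ E.G0 from
      ⟨E.J_mem_H hs (by decide +kernel), E.J_mem _⟩)]
    exact orderOf_dvd_natCard _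
  have hH1 : Nat.card ↥(E.H ⊓ E.G0) = 96 := by
    obtain ⟨r, hr⟩ := Nat.Coprime.mul_dvd_of_dvd_of_dvd (by decide : Nat.Coprime 32 3) h32 h3
    obtain ⟨q, hq⟩ := hd
    rw [hH, hr] at hq
    rw [hH, hr] at hlt
    have : r * q = 5 := by
      have : 96 * (r * q) = 96 * 5 := by linarith
      omega
    rcases (Nat.dvd_prime Nat.prime_five).mp ⟨q, this.symm⟩ with e | e <;> subst e <;> omega
  set H1 : Subgroup E.H := (E.H ⊓ E.G0).subgroupOf E.H with hH1def
  have hc1 : Nat.card H1 = Nat.card ↥(E.H ⊓ E.G0) :=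
    Nat.card_congr (Subgroup.subgroupOfEquivOfLe inf_le_left).toEquiv
  have : Fintype (E.H ⧸ H1) := Fintype.ofFinite _
  let X := E.H ⧸ H1
  let a : X := ((1 : E.H) : E.H ⧸ H1)
  have hmemH1 : ∀ g : E.H, g ∈ H1 ↔ (g : G) ∈ E.G0 := fun g => by
    rw [hH1def, Subgroup.mem_subgroupOf, Subgroup.mem_inf]
    exact ⟨fun h => h.2, fun h => ⟨g.2, h⟩⟩
  have hfix_a : ∀ g : E.H, g • a = a ↔ (g : G) ∈ E.G0 := fun g => by
    rw [← hmemH1]
    show ((g * 1 : E.H) : E.H ⧸ H1) = ((1 : E.H) : E.H ⧸ H1) ↔ _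
    rw [mul_one, QuotientGroup.eq, mul_one, inv_mem_iff]
  -- the involution `v1` moves every other point
  have hv1H : E.J v1 ∈ E.H := E.J_mem_H sign_facts.2.2.2.1 (by decide +kernel)
  have hmove : ∀ b ∈ v4, b ≠ 1 → ∀ (hb : E.J b ∈ E.H) (q : X), (⟨_, hb⟩ : E.H) • q = q → q = a := by
    intro b hb hb1 hbH q hq
    obtain ⟨g, rfl⟩ := QuotientGroup.mk_surjective q
    have h1 : g⁻¹ * (⟨_, hbH⟩ * g) ∈ H1 := QuotientGroup.eq.mp hq.symm
    rw [hmemH1] at h1
    obtain ⟨k, hk, hke⟩ := (v4_moves b hb).resolve_left hb1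
    obtain ⟨-, hks, hky, -⟩ := k3_facts k hk
    have hgy : Commute (g : G) E.y := E.mem_H.mp g.2
    have hky' : Commute (E.J k) E.y := E.mem_H.mp (E.J_mem_H hks hky)
    have h2 : ((g : G)⁻¹ * E.J k) * E.s * ((g : G)⁻¹ * E.J k)⁻¹ ∈ E.G0 := by
      have e : ((g : G)⁻¹ * E.J k) * E.s * ((g : G)⁻¹ * E.J k)⁻¹ =
          E.y * ((g : G)⁻¹ * (E.J b * g)) := by
        have hbk : E.J b = E.J k * E.J v1 * (E.J k)⁻¹ := by
          rw [E.J_conj hks sign_facts.2.2.2.1, hke]
        rw [show E.s = E.J (y0 * v1) by rw [← sg_facts.2.2.1], E.J_mul sign_facts.2.1 sign_facts.2.2.2.1,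
          hbk]
        calc _ = (g : G)⁻¹ * (E.J k * E.y) * E.J v1 * (E.J k)⁻¹ * g := by group
          _ = (g : G)⁻¹ * E.y * E.J k * E.J v1 * (E.J k)⁻¹ * g := by rw [hky'.eq]; group
          _ = E.y * (g : G)⁻¹ * E.J k * E.J v1 * (E.J k)⁻¹ * g := by rw [hgy.inv_left.eq]
          _ = _ := by group
      rw [e]
      exact mul_mem (E.J_mem _) h1
    have h3 := E.mem_G0_of_conj h2
    have h4 : ((g : G))⁻¹ ∈ E.G0 := by simpa using mul_mem h3 (inv_mem (E.J_mem k))
    show ((g : E.H) : E.H ⧸ H1) = ((1 : E.H) : E.H ⧸ H1)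
    rw [QuotientGroup.eq, mul_one, hmemH1]
    exact h4
  have hX : Fintype.card X = 5 := by
    have h' := Subgroup.card_mul_index H1
    rw [hc1, hH, Subgroup.index_eq_card, hH1] at h'
    rw [← Nat.card_eq_fintype_card]
    change 96 * Nat.card X = 480 at h'
    omega
  -- a second fixed point of the three-element
  have hc0H : E.J c0 ∈ E.H := E.J_mem_H sign_facts.2.2.2.2.2.1 (by decide +kernel)
  set C : E.H := ⟨E.J c0, hc0H⟩ with hC
  obtain ⟨b, hba, hcb⟩ : ∃ b : X, b ≠ a ∧ C • b = b := by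
    by_contra hno
    push Not at hno
    set π := MulAction.toPermHom E.H X C with hπ
    have hC3 : C ^ 3 = 1 := Subtype.ext (by
      show E.J c0 ^ 3 = 1
      have hs := sign_facts.2.2.2.2.2.1
      rw [pow_succ, pow_two, ← E.J_mul hs hs, ← E.J_mul (by rw [map_mul, hs]; rfl) hs]
      have := odd_facts.1
      rw [pow_succ, pow_two] at this
      rw [this, J_one])
    have : Fact (Nat.Prime 3) := ⟨Nat.prime_three⟩
    have hCa : C • a = a := (hfix_a C).mpr (show (C : G) ∈ E.G0 from E.J_mem c0)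
    have hsupp : π.support = Finset.univ.erase a := by
      ext q
      rw [Perm.mem_support, Finset.mem_erase]
      show C • q ≠ q ↔ _
      exact ⟨fun h => ⟨fun e => h (e ▸ hCa), Finset.mem_univ _⟩, fun h => hno q h.1⟩
    have hcard : π.support.card = 4 := by
      rw [hsupp, Finset.card_erase_of_mem (Finset.mem_univ _), Finset.card_univ, hX]
    have hord : orderOf π = 3 := orderOf_eq_prime (by rw [hπ, ← map_pow, hC3, map_one]) fun e => by
      rw [e, Perm.support_one, Finset.card_empty] at hcard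
      omega
    obtain ⟨n, hn⟩ := Equiv.Perm.cycleType_prime_order (σ := π) (hord.symm ▸ Nat.prime_three)
    have hsum := Equiv.Perm.sum_cycleType π
    rw [hn, hord, Multiset.sum_replicate, hcard, smul_eq_mul] at hsum
    omega
  -- the labels
  have hwH : ∀ i, E.J (w i) ∈ E.H := fun i =>
    E.J_mem_H (w_facts.1 i).1 (v4_sub _ (w_facts.1 i).2).2.2.2.2
  let β : Fin 5 → X := fun i => if i = 4 then a else (⟨_, hwH i⟩ : E.H) • b
  have hβne : ∀ i, i ≠ 4 → β i ≠ a := by
    intro i hi he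
    simp only [β, if_neg hi] at he
    apply hba
    have := (hfix_a ⟨_, hwH i⟩⁻¹).mpr (inv_mem (E.J_mem _))
    rw [← he, inv_smul_smul] at this
    exact this.trans he
  have hβinj : Function.Injective β := by
    intro i j hij
    by_cases hi : i = 4 <;> by_cases hj : j = 4
    · rw [hi, hj]
    · exact absurd (hij.symm.trans (by simp [β, hi])) (hβne j hj)
    · exact absurd (hij.trans (by simp [β, hj])) (hβne i hi)
    · simp only [β, if_neg hi, if_neg hj] at hij
      refine w_facts.2 i j hi hj ?_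
      by_contra hne
      obtain ⟨-, his⟩ := w_facts.1 i
      obtain ⟨-, hjs⟩ := w_facts.1 j
      have hb := (closed_v4.2 _ (closed_v4.2 _ hjs).1).2 _ his
      apply hba
      refine hmove _ hb (fun e => hne (inv_mul_eq_one.mp e).symm)
        (E.J_mem_H (v4_sub _ hb).2.2.2.1 (v4_sub _ hb).2.2.2.2) b ?_
      have he : (⟨E.J ((w j)⁻¹ * w i), E.J_mem_H (v4_sub _ hb).2.2.2.1 (v4_sub _ hb).2.2.2.2⟩ : E.H) =
          (⟨E.J (w j), hwH j⟩ : E.H)⁻¹ * ⟨E.J (w i), hwH i⟩ := Subtype.ext (by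
        show E.J _ = (E.J _)⁻¹ * E.J _
        rw [← E.J_inv (w_facts.1 _).1, ← E.J_mul (by rw [map_inv, (w_facts.1 _).1]; rfl) (w_facts.1 _).1])
      rw [he, mul_smul]
      exact inv_smul_eq_iff.mpr hij
  let β' : Fin 5 ≃ X := Equiv.ofBijective β
    ((Fintype.bijective_iff_injective_and_card β).mpr ⟨hβinj, by rw [hX, Fintype.card_fin]⟩)
  let Φ : E.H →* P5 := (β'.symm.permCongrHom.toMonoidHom).comp (MulAction.toPermHom E.H X)
  have hΦ : ∀ (g : E.H) (σ : P5), (∀ i, g • β i = β (σ i)) → Φ g = σ := by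
    intro g σ h
    refine Equiv.ext fun i => β'.injective ?_
    show β' (β'.symm (g • β' i)) = β' (σ i)
    rw [Equiv.apply_symm_apply]
    exact h i
  -- the three-element fixes only two points
  have honly : ∀ q : X, C • q = q → q = a ∨ q = b := by
    intro q hq
    obtain ⟨i, rfl⟩ := β'.surjective q
    change C • β i = β i at hq
    show β i = a ∨ β i = b
    by_cases hi : i = 4
    · exact Or.inl (by simp [β, hi])
    obtain ⟨f4, f3, fw, -, fs, fy⟩ := five_norm c0 (by simp)
    have hwi : C • β i = β (five c0 i) := by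
      have hσ : five c0 i ≠ 4 := fun e => hi ((five c0).injective (e.trans f4.symm))
      simp only [β, if_neg hi, if_neg hσ]
      have he : (⟨E.J (w (five c0 i)), hwH _⟩ : E.H) = C * ⟨E.J (w i), hwH i⟩ * C⁻¹ :=
        Subtype.ext (by
          show E.J _ = E.J c0 * E.J (w i) * (E.J c0)⁻¹
          rw [E.J_conj fs (w_facts.1 i).1, fw i hi])
      rw [he, mul_smul, mul_smul]
      rw [show C⁻¹ • b = b from inv_smul_eq_iff.mpr hcb.symm]
    have h3 : five c0 i = i := hβinj (hwi.symm.trans hq)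
    have hi3 : i = 3 :=
      (show ∀ j : Fin 5, j ≠ 4 → five c0 j = j → j = 3 by decide +kernel) i hi h3
    subst hi3
    right
    simp only [β, if_neg hi]
    rw [show (⟨E.J (w 3), hwH 3⟩ : E.H) = 1 from Subtype.ext E.J_one, one_smul]
  let ρ : G → P5 := fun g => if h : g ∈ E.H then Φ ⟨g, h⟩ else 1
  have hρ : ∀ g (h : g ∈ E.H), ρ g = Φ ⟨g, h⟩ := fun g h => dif_pos h
  have hmul : ∀ g ∈ E.H, ∀ h ∈ E.H, ρ (g * h) = ρ g * ρ h := fun g hg h hh => by
    rw [hρ g hg, hρ h hh, hρ _ (mul_mem hg hh), ← map_mul]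
    rfl
  have hnormVal : ∀ p ∈ [c0, gen 3, v0, y0], ρ (E.J p) = five p := by
    intro p hp
    obtain ⟨f4, f3, fw, fc, fs, fy⟩ := five_norm p hp
    have hpH := E.J_mem_H fs fy
    rw [hρ _ hpH]
    set P : E.H := ⟨_, hpH⟩ with hP
    have hPb : P • b = b := by
      have hPc : (P⁻¹ * C * P) • b = b := by
        rcases fc with e | e
        · rw [show P⁻¹ * C * P = C from Subtype.ext (by
            show (E.J p)⁻¹ * E.J c0 * E.J p = E.J c0
            rw [← E.J_inv fs, ← E.J_mul (by rw [map_inv, fs]; rfl) sign_facts.2.2.2.2.2.1,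
              ← E.J_mul (by rw [map_mul, map_inv, fs, sign_facts.2.2.2.2.2.1]; rfl) fs, e])]
          exact hcb
        · rw [show P⁻¹ * C * P = C * C from Subtype.ext (by
            show (E.J p)⁻¹ * E.J c0 * E.J p = E.J c0 * E.J c0
            rw [← E.J_inv fs, ← E.J_mul (by rw [map_inv, fs]; rfl) sign_facts.2.2.2.2.2.1,
              ← E.J_mul (by rw [map_mul, map_inv, fs, sign_facts.2.2.2.2.2.1]; rfl) fs, e,
              E.J_mul sign_facts.2.2.2.2.2.1 sign_facts.2.2.2.2.2.1])]
          rw [mul_smul, hcb, hcb]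
      rw [mul_smul, mul_smul, inv_smul_eq_iff] at hPc
      rcases honly _ hPc with e | e
      · exfalso
        apply hba
        have h' := congrArg (fun q => P⁻¹ • q) e
        simp only [inv_smul_smul] at h'
        rw [h']
        exact inv_smul_eq_iff.mpr ((hfix_a P).mpr (E.J_mem _)).symm
      · exact e
    refine hΦ P _ fun i => ?_
    by_cases hi : i = 4
    · subst hi
      rw [f4]
      simp only [β, if_true]
      exact (hfix_a P).mpr (E.J_mem _)
    · have hσ : five p i ≠ 4 := fun e => hi ((five p).injective (e.trans f4.symm))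
      simp only [β, if_neg hi, if_neg hσ]
      have he : (⟨E.J (w (five p i)), hwH _⟩ : E.H) = P * ⟨E.J (w i), hwH i⟩ * P⁻¹ :=
        Subtype.ext (by
          show E.J _ = E.J p * E.J (w i) * (E.J p)⁻¹
          rw [E.J_conj fs (w_facts.1 i).1, fw i hi])
      rw [he, mul_smul, mul_smul, show P⁻¹ • b = b from inv_smul_eq_iff.mpr hPb.symm]
  have htransVal : ∀ p ∈ [v1, v2], ρ (E.J p) = five p := by
    intro p hp
    obtain ⟨f4, fw, fs, fy⟩ := five_trans p hp
    have hpH := E.J_mem_H fs fy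
    rw [hρ _ hpH]
    refine hΦ _ _ fun i => ?_
    by_cases hi : i = 4
    · subst hi
      rw [f4]
      simp only [β, if_true]
      exact (hfix_a ⟨_, hpH⟩).mpr (E.J_mem _)
    · have hσ : five p i ≠ 4 := fun e => hi ((five p).injective (e.trans f4.symm))
      simp only [β, if_neg hi, if_neg hσ, smul_smul]
      congr 1
      exact Subtype.ext (by
        show E.J p * E.J (w i) = E.J (w (five p i))
        rw [← E.J_mul fs (w_facts.1 i).1, fw i hi])
  have hval : ∀ p ∈ [c0, gen 3, v0, y0, v1, v2], ρ (E.J p) = five p := by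
    intro p hp
    simp only [List.mem_cons, List.not_mem_nil, or_false] at hp
    rcases hp with h | h | h | h | h | h
    · exact hnormVal p (by simp [h])
    · exact hnormVal p (by simp [h])
    · exact hnormVal p (by simp [h])
    · exact hnormVal p (by simp [h])
    · exact htransVal p (by simp [h])
    · exact htransVal p (by simp [h])
  have hstab : ∀ g ∈ E.H, ρ g 4 = 4 ↔ g ∈ E.G0 := by
    intro g hg
    rw [hρ g hg, ← hfix_a ⟨g, hg⟩]
    show β'.symm ((⟨g, hg⟩ : E.H) • β' 4) = 4 ↔ _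
    rw [Equiv.symm_apply_eq]
    show (⟨g, hg⟩ : E.H) • β 4 = β 4 ↔ _
    simp [β]
  -- the subgroup of order 60 acts faithfully
  have hρ1 : ρ 1 = 1 := by
    have h' := hmul 1 (one_mem _) 1 (one_mem _)
    rw [mul_one] at h'
    exact left_eq_mul.mp h'
  have hker : ∀ k ∈ L.K, ρ k = 1 → k = 1 := by
    intro k hk hk1
    have hkH := L.le hk
    have hkG : k ∈ E.G0 := (hstab k hkH).mp (by rw [hk1]; rfl)
    have hkin : ∃ p ∈ c96, E.J p = k := by
      have hS : ∀ g, g ∈ E.H ⊓ E.G0 → ∃ p ∈ c96, E.J p = g := by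
        by_contra hno
        push Not at hno
        obtain ⟨g, hg, hne⟩ := hno
        have hcnt : Nat.card (Option (Fin c96.length)) ≤ Nat.card ↥(E.H ⊓ E.G0) := by
          refine Nat.card_le_card_of_injective (fun o => o.elim (⟨g, hg⟩ : ↥(E.H ⊓ E.G0))
            fun i => ⟨E.J c96[i.1], c96_mem E _ (List.getElem_mem i.2)⟩) ?_
          intro o o' ho
          match o, o' with
          | none, none => rfl
          | none, some i => exact absurd (congrArg Subtype.val ho).symm (hne _ (List.getElem_mem i.2))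
          | some i, none => exact absurd (congrArg Subtype.val ho) (hne _ (List.getElem_mem i.2))
          | some i, some j =>
            exact congrArg some (Fin.ext (c96_facts.1.getElem_inj_iff.mp
              (E.J_inj (c96_facts.2.2 _ (List.getElem_mem i.2)).1
                (c96_facts.2.2 _ (List.getElem_mem j.2)).1 (congrArg Subtype.val ho))))
        rw [Nat.card_eq_fintype_card, Fintype.card_option, Fintype.card_fin, c96_facts.2.1, hH1] at hcnt
        omega
      exact hS k ⟨hkH, hkG⟩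
    obtain ⟨p, hp, rfl⟩ := hkin
    rw [c96, List.mem_flatMap] at hp
    obtain ⟨t, ht, hp⟩ := hp
    rw [List.mem_map] at hp
    obtain ⟨c, hc, rfl⟩ := hp
    have hts := (t32_facts.2.2 t ht).1
    obtain ⟨hca, hcs, -, -⟩ := k3_facts c hc
    have htv : t ∈ v4 := L.t32_mem t ht (by
      rw [E.J_mul hts hcs] at hk
      exact (Subgroup.mul_mem_cancel_right _ (L.a12_mem c hca)).mp hk)
    have hH' : ∀ q ∈ [c0, v1, v2], E.J q ∈ E.H := fun q hq => by
      simp only [List.mem_cons, List.not_mem_nil, or_false] at hq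
      rcases hq with rfl | rfl | rfl
      · exact hc0H
      · exact hv1H
      · exact E.J_mem_H sign_facts.2.2.2.2.1 (v4_sub v2 (by decide +kernel)).2.2.2.2
    have e1 : ρ (E.J t) = if t = v1 * v2 then five v1 * five v2 else five t := by
      rw [v4] at htv
      simp only [List.mem_cons, List.not_mem_nil, or_false] at htv
      rcases htv with h | h | h | h
      · rw [if_neg (by rw [h]; decide +kernel), h, J_one, hρ1]; decide +kernel
      · rw [if_neg (by rw [h]; decide +kernel), h, hval v1 (by simp)]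
      · rw [if_neg (by rw [h]; decide +kernel), h, hval v2 (by simp)]
      · rw [if_pos h, h, E.J_mul sign_facts.2.2.2.1 sign_facts.2.2.2.2.1,
          hmul _ hv1H _ (hH' v2 (by simp)), hval v1 (by simp), hval v2 (by simp)]
    have e2 : ρ (E.J c) = if c = c0 * c0 then five c0 * five c0 else five c := by
      simp only [List.mem_cons, List.not_mem_nil, or_false] at hc
      rcases hc with h | h | h
      · rw [if_neg (by rw [h]; decide +kernel), h, J_one, hρ1]; decide +kernel
      · rw [if_neg (by rw [h]; decide +kernel), h, hval c0 (by simp)]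
      · rw [if_pos h, h, E.J_mul sign_facts.2.2.2.2.2.1 sign_facts.2.2.2.2.2.1,
          hmul _ hc0H _ hc0H, hval c0 (by simp)]
    rw [E.J_mul hts hcs, hmul _ (E.J_mem_H hts (t32_facts.2.2 t ht).2.2) _ (L.le (L.a12_mem c hca)),
      e1, e2] at hk1
    rw [a12_faithful t htv c hc hk1, J_one]
  have hinj : ∀ g ∈ L.K, ∀ h ∈ L.K, ρ g = ρ h → g = h := by
    intro g hg h hh e
    refine (mul_inv_eq_one.mp (hker _ (mul_mem hg (inv_mem hh)) ?_))
    rw [hmul g (L.le hg) _ (inv_mem (L.le hh)), e, ← hmul h (L.le hh) _ (inv_mem (L.le hh)),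
      mul_inv_cancel, hρ1]
  have himg : (L.K.subgroupOf E.H).map Φ = alternatingGroup (Fin 5) := by
    apply Equiv.Perm.eq_alternatingGroup_of_index_eq_two
    have hcardimg : Nat.card ((L.K.subgroupOf E.H).map Φ) = 60 := by
      rw [← hK60, ← Nat.card_congr (Subgroup.subgroupOfEquivOfLe L.le).toEquiv]
      refine (Nat.card_eq_of_bijective (fun k : L.K.subgroupOf E.H =>
        (⟨Φ k.1, Subgroup.mem_map_of_mem _ k.2⟩ : (L.K.subgroupOf E.H).map Φ)) ⟨?_, ?_⟩).symm
      · intro k k' e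
        apply Subtype.ext; apply Subtype.ext
        refine hinj _ k.2 _ k'.2 ?_
        show ρ ((k.1 : E.H) : G) = ρ ((k'.1 : E.H) : G)
        rw [hρ _ k.1.2, hρ _ k'.1.2]
        exact congrArg Subtype.val e
      · rintro ⟨_, k, hk, rfl⟩
        exact ⟨⟨k, hk⟩, rfl⟩
    have h' := Subgroup.card_mul_index ((L.K.subgroupOf E.H).map Φ)
    rw [hcardimg, Nat.card_perm, Nat.card_fin] at h'
    norm_num [Nat.factorial] at h'
    omega
  have hlift : ∀ σ : P5, Perm.sign σ = 1 → ∃ k ∈ L.K, ρ k = σ := by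
    intro σ hσ
    have : σ ∈ (L.K.subgroupOf E.H).map Φ := himg.symm ▸ hσ
    obtain ⟨k, hk, hke⟩ := Subgroup.mem_map.mp this
    exact ⟨k, hk, by rw [hρ _ k.2]; exact hke⟩
  have hnormal : ∀ g ∈ E.H, ∀ k ∈ L.K, g * k * g⁻¹ ∈ L.K := by
    intro g hg
    let S : Subgroup G := Subgroup.closure {x | x ∈ E.H ∧ Odd (orderOf x)}
    have hSK : S ≤ L.K := (Subgroup.closure_le _).mpr fun x hx => L.odd_mem x hx.1 hx.2
    have hKS : L.K ≤ S := by
      have hA : alternatingGroup (Fin 5) ≤ ((S ⊓ E.H).subgroupOf E.H).map Φ := by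
        rw [← Equiv.Perm.closure_three_cycles_eq_alternating, Subgroup.closure_le]
        intro σ hσ
        obtain ⟨k, hk, hke⟩ := hlift σ hσ.sign
        have hk3 : k ^ 3 = 1 := by
          refine hker _ (pow_mem hk 3) ?_
          rw [hρ _ (pow_mem (L.le hk) 3), show (⟨k ^ 3, pow_mem (L.le hk) 3⟩ : E.H) = ⟨k, L.le hk⟩ ^ 3 from rfl,
            map_pow, ← hρ _ (L.le hk), hke, ← hσ.orderOf, pow_orderOf_eq_one]
        have hodd : Odd (orderOf k) := by
          rcases (Nat.dvd_prime Nat.prime_three).mp (orderOf_dvd_of_pow_eq_one hk3) with e | e <;>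
            rw [e] <;> decide
        refine Subgroup.mem_map.mpr ⟨⟨k, L.le hk⟩, Subgroup.mem_subgroupOf.mpr
          ⟨Subgroup.subset_closure ⟨L.le hk, hodd⟩, L.le hk⟩, ?_⟩
        rw [← hρ _ (L.le hk), hke]
      intro k hk
      obtain ⟨x, hx, hxe⟩ := Subgroup.mem_map.mp (hA (himg ▸ Subgroup.mem_map_of_mem Φ
        (show (⟨k, L.le hk⟩ : E.H) ∈ L.K.subgroupOf E.H from hk)))
      have hxS : (x : G) ∈ S := (Subgroup.mem_subgroupOf.mp hx).1
      rw [← hinj (x : G) (hSK hxS) k hk (by rw [hρ _ x.2, hρ _ (L.le hk)]; exact hxe)]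
      exact hxS
    have hmapS : S.map (MulAut.conj g).toMonoidHom ≤ S := by
      rw [MonoidHom.map_closure]
      refine Subgroup.closure_mono ?_
      rintro _ ⟨x, ⟨hxH, hxo⟩, rfl⟩
      refine ⟨mul_mem (mul_mem hg hxH) (inv_mem hg), ?_⟩
      rw [show (MulAut.conj g).toMonoidHom x = (MulAut.conj g) x from rfl, MulEquiv.orderOf_eq]
      exact hxo
    intro k hk
    exact hSK (hmapS ⟨k, hKS hk, rfl⟩)
  exact ⟨⟨ρ, hmul, hval, hstab, hinj, hlift, hnormal⟩⟩

end Eight

end H78.EightNine
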