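import Mathlib.GroupTheory.Perm.Cycle.Type
import Mathlib.GroupTheory.GroupAction.Quotient
import Mathlib.GroupTheory.Index
import Mathlib.GroupTheory.OrderOfElement
import Mathlib.Algebra.Group.Subgroup.Finite
import Mathlib.Data.Fintype.Units

/-! Thompson's transfer by the sign of the action on cosets, inside a given subgroup. -/

set_option autoImplicit false

namespace H78.EightNine

/-- The action on the cosets of a subgroup of index twice an odd number gives a subgroup of index 2. -/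
theorem exists_half {G : Type*} [Group G] [Finite G] (M Q : Subgroup G) (hQM : Q ≤ M) (m : ℕ)
    (hm : Odd m) (hcard : Nat.card M = Nat.card Q * (2 * m)) (u : G) (hu : u ∈ M) (huQ : u * u ∈ Q)
    (huc : ∀ q ∈ M, Commute (u * u) q) (hconj : ∀ g ∈ M, g * u * g⁻¹ ∉ Q) :
    ∃ M' : Subgroup G, M' ≤ M ∧ Nat.card M = 2 * Nat.card M' ∧ u ∉ M' ∧
      (∀ g ∈ M, ∀ x ∈ M', g * x * g⁻¹ ∈ M') ∧
      (∀ a ∈ M, ∀ b ∈ M, (a * b ∈ M' ↔ (a ∈ M' ↔ b ∈ M'))) ∧
      (∀ x ∈ M, x * x ∈ Q → (∀ q ∈ M, Commute (x * x) q) → (∀ g ∈ M, g * x * g⁻¹ ∉ Q) → x ∉ M') ∧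
      (∀ x ∈ Q, (∀ q ∈ M, Commute x q) → x ∈ M') ∧ (∀ x ∈ M, Odd (orderOf x) → x ∈ M') := by
  classical
  set Qs : Subgroup M := Q.subgroupOf M with hQs
  have : Fintype (M ⧸ Qs) := Fintype.ofFinite _
  let π : M →* Equiv.Perm (M ⧸ Qs) := MulAction.toPermHom M (M ⧸ Qs)
  let f : M →* ℤˣ := Equiv.Perm.sign.comp π
  have hidx : Qs.index = 2 * m := by
    have h := Subgroup.card_mul_index Qs
    rw [hQs, Nat.card_congr (Subgroup.subgroupOfEquivOfLe hQM).toEquiv, hcard] at h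
    exact Nat.eq_of_mul_eq_mul_left Nat.card_pos h
  have hfixc : ∀ c : M, (c : G) ∈ Q → (∀ q ∈ M, Commute (c : G) q) → π c = 1 := by
    intro c hc hcc
    refine Equiv.ext fun q => ?_
    obtain ⟨g, rfl⟩ := QuotientGroup.mk_surjective q
    show ((c * g : M) : M ⧸ Qs) = (g : M ⧸ Qs)
    rw [QuotientGroup.eq, hQs, Subgroup.mem_subgroupOf]
    show ((c : G) * g)⁻¹ * g ∈ Q
    rw [(hcc _ g.2).eq, mul_inv_rev, inv_mul_cancel_right]
    exact inv_mem hc
  have hneg : ∀ x : M, (x : G) * x ∈ Q → (∀ q ∈ M, Commute ((x : G) * x) q) →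
      (∀ g ∈ M, g * (x : G) * g⁻¹ ∉ Q) → f x = -1 := by
    intro x hx hxc hxn
    have hfix : ∀ q : M ⧸ Qs, π x q ≠ q := by
      intro q hq
      obtain ⟨g, rfl⟩ := QuotientGroup.mk_surjective q
      have h1 : ((x * g : M) : M ⧸ Qs) = (g : M ⧸ Qs) := hq
      have h2 : g⁻¹ * (x * g) ∈ Qs := QuotientGroup.eq.mp h1.symm
      refine hxn _ (g⁻¹).2 ?_
      simpa [mul_assoc, hQs, Subgroup.mem_subgroupOf] using h2
    have hsq : π x ^ 2 = 1 := by
      rw [pow_two, ← map_mul]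
      exact hfixc (x * x) hx hxc
    have : Fact (Nat.Prime 2) := ⟨Nat.prime_two⟩
    have hord : orderOf (π x) = 2 := orderOf_eq_prime hsq fun h1 =>
      hfix ((1 : M) : M ⧸ Qs) (by rw [h1]; rfl)
    obtain ⟨n, hn⟩ := Equiv.Perm.cycleType_prime_order (σ := π x) (hord.symm ▸ Nat.prime_two)
    have hsupp : (π x).support = Finset.univ := by
      ext q; simp [hfix q]
    have hsum := Equiv.Perm.sum_cycleType (π x)
    rw [hn, hord, Multiset.sum_replicate, hsupp, Finset.card_univ, ← Nat.card_eq_fintype_card,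
      ← Subgroup.index_eq_card, hidx, smul_eq_mul] at hsum
    show Equiv.Perm.sign (π x) = -1
    rw [Equiv.Perm.sign_of_cycleType, hn, hord, Multiset.sum_replicate, Multiset.card_replicate,
      smul_eq_mul]
    apply Odd.neg_one_pow
    obtain ⟨k, hk⟩ := hm
    exact ⟨3 * k + 1, by omega⟩
  have hsurj : f.range = ⊤ := by
    rw [eq_top_iff]
    rintro x -
    rcases Int.units_eq_one_or x with rfl | rfl
    · exact ⟨1, map_one f⟩
    · exact ⟨⟨u, hu⟩, hneg ⟨u, hu⟩ huQ huc hconj⟩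
  have hmem : ∀ x : M, (x : G) ∈ f.ker.map M.subtype ↔ f x = 1 := fun x => by
    rw [Subgroup.mem_map]
    exact ⟨fun ⟨a, ha, hae⟩ => (Subtype.ext hae : a = x) ▸ ha, fun h => ⟨x, h, rfl⟩⟩
  refine ⟨f.ker.map M.subtype, Subgroup.map_subtype_le _, ?_, fun h => ?_, ?_, ?_, ?_, ?_, ?_⟩
  · rw [Subgroup.card_map_of_injective M.subtype_injective, ← f.ker.index_mul_card, Subgroup.index_ker, hsurj,
      Subgroup.card_top, Nat.card_eq_fintype_card, Fintype.card_units_int]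
  · exact absurd ((hmem ⟨u, hu⟩).mp h ▸ hneg ⟨u, hu⟩ huQ huc hconj) (by decide)
  · rintro g hg _ ⟨x, hx, rfl⟩
    refine (hmem (⟨g, hg⟩ * x * ⟨g, hg⟩⁻¹)).mpr ?_
    rw [map_mul, map_mul, MonoidHom.mem_ker.mp hx, mul_one, map_inv, mul_inv_cancel]
  · intro a ha b hb
    rw [show a * b = ((⟨a, ha⟩ * ⟨b, hb⟩ : M) : G) from rfl, hmem, map_mul, hmem ⟨a, ha⟩,
      hmem ⟨b, hb⟩]
    exact (show ∀ p q : ℤˣ, p * q = 1 ↔ (p = 1 ↔ q = 1) by decide) _ _
  · intro x hx h1 h2 h3 h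
    exact absurd ((hmem ⟨x, hx⟩).mp h ▸ hneg ⟨x, hx⟩ h1 h2 h3) (by decide)
  · intro x hx hxc
    refine (hmem ⟨x, hQM hx⟩).mpr ?_
    show Equiv.Perm.sign (π _) = 1
    rw [hfixc ⟨x, hQM hx⟩ hx hxc, map_one]
  · intro x hx hodd
    refine (hmem ⟨x, hx⟩).mpr ?_
    rcases Int.units_eq_one_or (f ⟨x, hx⟩) with h | h
    · exact h
    · exfalso
      have hd := orderOf_map_dvd f (⟨x, hx⟩ : M)
      rw [h, Subgroup.orderOf_mk, show orderOf (-1 : ℤˣ) = 2 from
        orderOf_eq_prime (by decide) (by decide)] at hd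
      exact (Nat.not_even_iff_odd.mpr hodd) (even_iff_two_dvd.mpr hd)

end H78.EightNine
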