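import Cfsg.Agent.H78.EightNine.Basic
import Cfsg.Agent.H78.EightNine.Lists
import Cfsg.Agent.H78.EightNine.Sign
import Cfsg.Agent.H70.SelfCentKlein
import Mathlib.GroupTheory.Sylow

/-!
The centralizer of a short involution has order 96 or 480, with a subgroup of index 8 of order 12
or 60.
-/

set_option autoImplicit false
set_option maxRecDepth 20000

namespace H78.EightNine

open Equiv

namespace Eight

variable {G : Type*} [Group G] (E : Eight G)

/-- The centralizer of the short involution. -/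
abbrev H : Subgroup G := Subgroup.centralizer ({E.y} : Set G)

theorem mem_H {g : G} : g ∈ E.H ↔ Commute g E.y := Subgroup.mem_centralizer_singleton_iff

theorem J_mem_H {p : P8} (hp : Perm.sign p = 1) (h : p * y0 = y0 * p) : E.J p ∈ E.H :=
  E.mem_H.mpr ((E.J_commute hp sign_facts.2.1).mpr h)

/-- The subgroup given by a closed list of even permutations. -/
def listSub (l : List P8) (hev : ∀ p ∈ l, Perm.sign p = 1)
    (hcl : (1 : P8) ∈ l ∧ ∀ p ∈ l, p⁻¹ ∈ l ∧ ∀ q ∈ l, p * q ∈ l) : Subgroup G where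
  carrier := {g | ∃ p ∈ l, E.J p = g}
  one_mem' := ⟨1, hcl.1, E.J_one⟩
  mul_mem' := by
    rintro _ _ ⟨p, hp, rfl⟩ ⟨q, hq, rfl⟩
    exact ⟨p * q, (hcl.2 p hp).2 q hq, E.J_mul (hev p hp) (hev q hq)⟩
  inv_mem' := by
    rintro _ ⟨p, hp, rfl⟩
    exact ⟨p⁻¹, (hcl.2 p hp).1, E.J_inv (hev p hp)⟩

theorem card_of_list {l : List P8} (hnd : l.Nodup) (hev : ∀ p ∈ l, Perm.sign p = 1)
    {S : Subgroup G} (hS : ∀ g, g ∈ S ↔ ∃ p ∈ l, E.J p = g) : Nat.card S = l.length := by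
  rw [← Nat.card_fin l.length]
  refine (Nat.card_eq_of_bijective
    (fun i : Fin l.length => (⟨E.J l[i.1], (hS _).mpr ⟨_, List.getElem_mem i.2, rfl⟩⟩ : S))
    ⟨fun a b h => ?_, fun g => ?_⟩).symm
  · exact Fin.ext ((hnd.getElem_inj_iff).mp
      (E.J_inj (hev _ (List.getElem_mem a.2)) (hev _ (List.getElem_mem b.2))
        (congrArg Subtype.val h)))
  · obtain ⟨p, hp, hpe⟩ := (hS g.1).mp g.2
    obtain ⟨i, hi, rfl⟩ := List.mem_iff_getElem.mp hp
    exact ⟨⟨i, hi⟩, Subtype.ext hpe⟩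

theorem le_card_of_list [Finite G] {l : List P8} (hnd : l.Nodup) (hev : ∀ p ∈ l, Perm.sign p = 1)
    {S : Subgroup G} (hS : ∀ p ∈ l, E.J p ∈ S) : l.length ≤ Nat.card S := by
  rw [← Nat.card_fin l.length]
  refine Nat.card_le_card_of_injective
    (fun i : Fin l.length => (⟨E.J l[i.1], hS _ (List.getElem_mem i.2)⟩ : S)) fun a b h => ?_
  exact Fin.ext ((hnd.getElem_inj_iff).mp
      (E.J_inj (hev _ (List.getElem_mem a.2)) (hev _ (List.getElem_mem b.2))
        (congrArg Subtype.val h)))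

theorem mem_cent_pair {g : G} (h1 : Commute g E.s) (h2 : Commute g E.y) :
    ∃ p ∈ t32, E.J p = g := by
  obtain ⟨p, hp, rfl⟩ := E.mem_G0.mp (E.mem_G0_of_commute_s h1)
  exact ⟨p, mem_t32 hp ((E.J_commute hp sign_facts.1).mp h1)
    ((E.J_commute hp sign_facts.2.1).mp h2), rfl⟩

theorem commute_pair {p : P8} (hp : p ∈ t32) : Commute (E.J p) E.s ∧ Commute (E.J p) E.y := by
  obtain ⟨hs, h1, h2⟩ := t32_facts.2.2 p hp
  exact ⟨(E.J_commute hs sign_facts.1).mpr h1, (E.J_commute hs sign_facts.2.1).mpr h2⟩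

/-- No 2-subgroup is larger than the part centralizing the long involution, if the latter is the only
long involution in the centre of that part. -/
theorem not_dvd_double [Finite G] (C : Subgroup G) (hCH : C ≤ E.H) (k : ℕ) (l : List P8)
    (hD : ∀ g, g ∈ C ⊓ Subgroup.centralizer ({E.s} : Set G) ↔ ∃ p ∈ l, E.J p = g)
    (hev : ∀ p ∈ l, Perm.sign p = 1) (hnd : l.Nodup) (hlen : l.length = 2 ^ k) (hsl : sg ∈ l)
    (hkey : ∀ p ∈ l, (∀ i, p i ≠ i) → p * p = 1 → (∀ q ∈ l, p * q = q * p) → p = sg) :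
    ¬ 2 ^ (k + 1) ∣ Nat.card C := by
  intro hdvd
  have : Fact (Nat.Prime 2) := ⟨Nat.prime_two⟩
  set D := C ⊓ Subgroup.centralizer ({E.s} : Set G) with hDdef
  have hDC : D ≤ C := inf_le_left
  have hDcard : Nat.card (D.subgroupOf C) = 2 ^ k := by
    rw [Nat.card_congr (Subgroup.subgroupOfEquivOfLe hDC).toEquiv, E.card_of_list hnd hev hD, hlen]
  obtain ⟨K, hK, hle⟩ := Sylow.exists_subgroup_card_pow_succ hdvd hDcard
  have hne : ¬ K ≤ D.subgroupOf C := fun h => by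
    have := Subgroup.card_le_of_le h
    rw [hK, hDcard, pow_succ] at this
    have := Nat.pow_pos (n := k) (show 0 < 2 by norm_num)
    omega
  obtain ⟨n, hnK, hnD⟩ := SetLike.not_le_iff_exists.mp hne
  have hidx : ((D.subgroupOf C).subgroupOf K).index = 2 := by
    have h := Subgroup.card_mul_index ((D.subgroupOf C).subgroupOf K)
    rw [Nat.card_congr (Subgroup.subgroupOfEquivOfLe hle).toEquiv, hDcard, hK, pow_succ] at h
    exact Nat.eq_of_mul_eq_mul_left (Nat.pow_pos (by norm_num)) h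
  have hnorm := Subgroup.normal_of_index_eq_two hidx
  have hconj : ∀ m : C, m ∈ K → ∀ x : C, (x : G) ∈ D → (m : G) * x * (m : G)⁻¹ ∈ D := fun m hm x hx =>
    hnorm.conj_mem ⟨x, hle hx⟩ hx ⟨m, hm⟩
  have hsC : E.s ∈ C := ((hD E.s).mpr ⟨sg, hsl, rfl⟩).1
  obtain ⟨p, hp, hpe⟩ := (hD _).mp (hconj n hnK ⟨E.s, hsC⟩ ((hD E.s).mpr ⟨sg, hsl, rfl⟩))
  have hp2 : p * p = 1 := E.J_inj (by rw [map_mul, hev p hp]; rfl) (map_one _) (by
    rw [E.J_mul (hev p hp) (hev p hp), J_one, hpe, conj_mul, E.s_sq, mul_one, mul_inv_cancel])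
  have hlong := E.long_of_conj (hev p hp) (isConj_iff.mpr ⟨n.1, hpe.symm⟩)
  have hcen : ∀ q ∈ l, p * q = q * p := by
    intro q hq
    have hqC : E.J q ∈ C := ((hD _).mpr ⟨q, hq, rfl⟩).1
    have h' := hconj n⁻¹ (inv_mem hnK) ⟨E.J q, hqC⟩ ((hD _).mpr ⟨q, hq, rfl⟩)
    rw [Subgroup.coe_inv, inv_inv] at h'
    have hcs : Commute ((n : G)⁻¹ * E.J q * (n : G)) E.s :=
      Subgroup.mem_centralizer_singleton_iff.mp h'.2
    rw [← E.J_commute (hev p hp) (hev q hq), hpe,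
      show E.J q = (n : G) * ((n : G)⁻¹ * E.J q * (n : G)) * (n : G)⁻¹ by group]
    exact (Commute.conj_iff (n : G)).mpr hcs.symm
  rw [hkey p hp hlong hp2 hcen] at hpe
  refine hnD (Subgroup.mem_subgroupOf.mpr ⟨n.2, Subgroup.mem_centralizer_singleton_iff.mpr ?_⟩)
  calc (n : G) * E.s = (n : G) * E.s * (n : G)⁻¹ * n := by group
    _ = E.s * n := by rw [← hpe]

theorem mem_H_inf_s {g : G} :
    g ∈ E.H ⊓ Subgroup.centralizer ({E.s} : Set G) ↔ ∃ p ∈ t32, E.J p = g := by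
  rw [Subgroup.mem_inf, mem_H, Subgroup.mem_centralizer_singleton_iff]
  exact ⟨fun ⟨h2, h1⟩ => E.mem_cent_pair h1 h2,
    fun ⟨p, hp, h⟩ => h ▸ ⟨(E.commute_pair hp).2, (E.commute_pair hp).1⟩⟩

theorem card_H_eq [Finite G] : ∃ m, Odd m ∧ Nat.card E.H = 32 * m := by
  have h64 := E.not_dvd_double E.H le_rfl 5 t32 (fun g => E.mem_H_inf_s)
    (fun p hp => (t32_facts.2.2 p hp).1) t32_facts.1 t32_facts.2.1 (by simpa using sub_facts.2.2.2.2.2.2.2.2.2.2.2)
    t32_central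
  have h32 : 32 ∣ Nat.card E.H := by
    have h := Subgroup.card_dvd_of_le (inf_le_left : E.H ⊓ Subgroup.centralizer ({E.s} : Set G) ≤ E.H)
    rwa [E.card_of_list t32_facts.1 (fun p hp => (t32_facts.2.2 p hp).1) (fun g => E.mem_H_inf_s),
      t32_facts.2.1] at h
  obtain ⟨m, hm⟩ := h32
  refine ⟨m, Nat.not_even_iff_odd.mp fun ⟨r, hr⟩ => h64 ?_, hm⟩
  exact ⟨r, by rw [hm, hr]; ring⟩

/-- The subgroups used by the transfers. -/
abbrev E16 : Subgroup G := E.listSub e16 (fun p hp => (e16_facts.2.2 p hp).1) closed_e16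
abbrev Q8 : Subgroup G := E.listSub q8 (fun p hp => (q8_sub p hp).2.2.1) closed_q8
abbrev V4 : Subgroup G := E.listSub v4 (fun p hp => (v4_sub p hp).2.2.2.1) closed_v4

theorem J_orderOf_odd {p : P8} (hp : Perm.sign p = 1) (h : p ^ 3 = 1) : Odd (orderOf (E.J p)) := by
  have h3 : orderOf (E.J p) ∣ 3 := by
    apply orderOf_dvd_of_pow_eq_one
    rw [pow_succ, pow_two, ← E.J_mul hp hp, ← E.J_mul (by rw [map_mul, hp]; rfl) hp]
    rw [pow_succ, pow_two] at h
    rw [h, J_one]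
  rcases (Nat.dvd_prime Nat.prime_three).mp h3 with e | e <;> rw [e] <;> decide

theorem gen3_conj_not_mem [Finite G] : ∀ h ∈ E.H, h * E.J (gen 3) * h⁻¹ ∉ E.E16 := by
  intro h hh hmem
  obtain ⟨q, hq, hqe⟩ := hmem
  set u := E.J (gen 3) with hu
  set C := E.H ⊓ Subgroup.centralizer ({u} : Set G) with hC
  have hu3 : gen 3 * y0 = y0 * gen 3 := v0_facts.2.2.2.2.2.2.2.2
  have ht8 : ∀ p ∈ t8, p ∈ t32 ∧ p * gen 3 = gen 3 * p := fun p hp => by
    rw [t8, List.mem_filter, decide_eq_true_iff] at hp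
    exact hp
  have hev : ∀ p ∈ t8, Perm.sign p = 1 := fun p hp => (t32_facts.2.2 p (ht8 p hp).1).1
  have h16 := E.not_dvd_double C inf_le_left 3 t8 ?_ hev sub_facts.2.2.2.2.2.1
    sub_facts.2.2.2.2.2.2.1 ?_ (fun p hp h1 h2 _ => t32_q_central p hp h1 h2)
  · apply h16
    have hsub : (E.E16.map (MulAut.conj h⁻¹).toMonoidHom) ≤ C := by
      rintro _ ⟨g, ⟨r, hr, rfl⟩, rfl⟩
      show h⁻¹ * E.J r * (h⁻¹)⁻¹ ∈ C
      rw [hC, Subgroup.mem_inf, mem_H, Subgroup.mem_centralizer_singleton_iff, inv_inv]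
      obtain ⟨hrs, hry, -⟩ := e16_facts.2.2 r hr
      constructor
      · have hy : h⁻¹ * E.y * h = E.y := by
          rw [mul_assoc, ← (E.mem_H.mp hh).eq, inv_mul_cancel_left]
        have hh' := (Commute.conj_iff h⁻¹).mpr ((E.J_commute hrs sign_facts.2.1).mpr hry)
        rw [inv_inv, hy] at hh'
        exact hh'
      · have hu' : u = h⁻¹ * E.J q * h := by rw [hqe]; group
        have hh' := (Commute.conj_iff h⁻¹).mpr
          ((E.J_commute hrs (e16_facts.2.2 q hq).1).mpr (e16_comm r hr q hq))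
        rw [inv_inv, ← hu'] at hh'
        exact hh'.eq
    have := Subgroup.card_dvd_of_le hsub
    rwa [Subgroup.card_map_of_injective (MulAut.conj h⁻¹).injective,
      E.card_of_list e16_facts.1 (fun p hp => (e16_facts.2.2 p hp).1) (fun g => Iff.rfl),
      e16_facts.2.1] at this
  · intro g
    rw [hC, show (E.H ⊓ Subgroup.centralizer ({u} : Set G)) ⊓ Subgroup.centralizer ({E.s} : Set G) =
      (E.H ⊓ Subgroup.centralizer ({E.s} : Set G)) ⊓ Subgroup.centralizer ({u} : Set G) from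
      inf_right_comm _ _ _, Subgroup.mem_inf, E.mem_H_inf_s, Subgroup.mem_centralizer_singleton_iff]
    constructor
    · rintro ⟨⟨p, hp, rfl⟩, hc⟩
      refine ⟨p, List.mem_filter.mpr ⟨hp, decide_eq_true ?_⟩, rfl⟩
      exact (E.J_commute (t32_facts.2.2 p hp).1 (sign_gen 3)).mp hc
    · rintro ⟨p, hp, rfl⟩
      exact ⟨⟨p, (ht8 p hp).1, rfl⟩, ((E.J_commute (hev p hp) (sign_gen 3)).mpr (ht8 p hp).2).eq⟩
  · exact List.mem_filter.mpr ⟨sub_facts.2.2.2.2.2.2.2.2.2.2.2, by decide +kernel⟩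

/-- The data of the centralizer of the short involution. -/
structure Local where
  K : Subgroup G
  le : K ≤ E.H
  card : Nat.card E.H = 8 * Nat.card K
  twelve_or_sixty : Nat.card K = 12 ∨ Nat.card K = 60
  a12_mem : ∀ p ∈ a12, E.J p ∈ K
  t32_mem : ∀ p ∈ t32, E.J p ∈ K → p ∈ v4
  odd_mem : ∀ x ∈ E.H, Odd (orderOf x) → x ∈ K
  notMem : E.J (gen 3) ∉ K ∧ E.J v0 ∉ K ∧ E.y ∉ K

theorem exists_local [Finite G] : Nonempty E.Local := by
  obtain ⟨m, hm, hcard⟩ := E.card_H_eq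
  have hu3 : gen 3 * y0 = y0 * gen 3 := v0_facts.2.2.2.2.2.2.2.2
  have huH : E.J (gen 3) ∈ E.H := E.J_mem_H (sign_gen 3) hu3
  have hE : E.E16 ≤ E.H := by
    rintro _ ⟨p, hp, rfl⟩
    exact E.J_mem_H (e16_facts.2.2 p hp).1 (e16_facts.2.2 p hp).2.1
  have hcE : Nat.card E.E16 = 16 := by
    rw [E.card_of_list e16_facts.1 (fun p hp => (e16_facts.2.2 p hp).1) (fun g => Iff.rfl), e16_facts.2.1]
  have hu2 : E.J (gen 3) * E.J (gen 3) = 1 := by
    rw [← E.J_mul (sign_gen 3) (sign_gen 3), v0_facts.2.2.2.2.2.2.2.1, J_one]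
  obtain ⟨M, hMH, hMcard, huM, hMn, hMmul, hMout, hMc, hModd⟩ := exists_half E.H E.E16 hE m hm
    (by rw [hcard, hcE]; ring) (E.J (gen 3)) huH (hu2 ▸ one_mem _) (fun q _ => hu2 ▸ Commute.one_left q)
    E.gen3_conj_not_mem
  have hyE : E.y ∈ E.E16 := ⟨y0, sub_facts.2.2.2.2.2.2.2.1, rfl⟩
  have hycen : ∀ q ∈ E.H, Commute E.y q := fun q hq => (E.mem_H.mp hq).symm
  have hyM : E.y ∈ M := hMc _ hyE hycen
  have hv0s : Perm.sign v0 = 1 := sign_facts.2.2.1
  have hvH : E.J v0 ∈ E.H := E.J_mem_H hv0s v0_facts.2.1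
  have hvu : Perm.sign (v0 * gen 3) = 1 := by rw [map_mul, hv0s, sign_gen]; rfl
  have hx2 : E.J (v0 * gen 3) * E.J (v0 * gen 3) = E.y := by
    rw [← E.J_mul hvu hvu, v0_facts.2.2.2.2.2.2.1]
  have hvM : E.J v0 ∈ M := by
    have hxH : E.J (v0 * gen 3) ∈ E.H := by
      rw [E.J_mul hv0s (sign_gen 3)]; exact mul_mem hvH huH
    have hxM : E.J (v0 * gen 3) ∉ M := by
      refine hMout _ hxH (by rw [hx2]; exact hyE) (by rw [hx2]; exact hycen) fun g hg hmem => ?_
      obtain ⟨q, hq, hqe⟩ := hmem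
      have : E.J q * E.J q = 1 := by
        rw [← E.J_mul (e16_facts.2.2 q hq).1 (e16_facts.2.2 q hq).1, (e16_facts.2.2 q hq).2.2, J_one]
      rw [hqe, conj_mul, hx2, conj_eq_one_iff] at this
      exact sg_facts.2.2.2.2.2.2.1 (E.J_inj sign_facts.2.1 (map_one _) (this.trans E.J_one.symm))
    by_contra hvM
    rw [E.J_mul hv0s (sign_gen 3), hMmul _ hvH _ huH] at hxM
    exact hxM ⟨fun h => absurd h hvM, fun h => absurd h huM⟩
  have h3M : ∀ p : P8, Perm.sign p = 1 → p * y0 = y0 * p → p ^ 3 = 1 → E.J p ∈ M := fun p hs hc h3 =>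
    hModd _ (E.J_mem_H hs hc) (E.J_orderOf_odd hs h3)
  obtain ⟨f0, f1, f2, f3, f4⟩ := odd_facts
  -- the second transfer
  have hQcard : Nat.card E.Q8 = 8 := by
    rw [E.card_of_list sub_facts.2.1 (fun p hp => (q8_sub p hp).2.2.1) (fun g => Iff.rfl), sub_facts.2.2.1]
  have hsgn : Perm.sign c0 = 1 ∧ Perm.sign (c0 * c0) = 1 ∧ Perm.sign (v1 * (c0 * c0)) = 1 ∧
      Perm.sign (v2 * (c0 * c0)) = 1 := by decide +kernel
  have hcom : c0 * y0 = y0 * c0 ∧ (v1 * (c0 * c0)) * y0 = y0 * (v1 * (c0 * c0)) ∧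
      (v2 * (c0 * c0)) * y0 = y0 * (v2 * (c0 * c0)) := by decide +kernel
  have a12M : ∀ {M' : Subgroup G}, (∀ x ∈ E.H, Odd (orderOf x) → x ∈ M') → ∀ p ∈ a12, E.J p ∈ M' := by
    intro M' hodd
    have hc : E.J c0 ∈ M' := hodd _ (E.J_mem_H hsgn.1 hcom.1) (E.J_orderOf_odd hsgn.1 f0)
    have h1 : E.J v1 ∈ M' := by
      rw [f1, E.J_mul hsgn.2.2.1 hsgn.1]
      exact mul_mem (hodd _ (E.J_mem_H hsgn.2.2.1 hcom.2.1) (E.J_orderOf_odd hsgn.2.2.1 f3)) hc
    have h2 : E.J v2 ∈ M' := by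
      rw [f2, E.J_mul hsgn.2.2.2 hsgn.1]
      exact mul_mem (hodd _ (E.J_mem_H hsgn.2.2.2 hcom.2.2) (E.J_orderOf_odd hsgn.2.2.2 f4)) hc
    have s1 : Perm.sign v1 = 1 := sign_facts.2.2.2.1
    have s2 : Perm.sign v2 = 1 := sign_facts.2.2.2.2.1
    intro p hp
    rw [a12, List.mem_flatMap] at hp
    obtain ⟨a, ha, hp⟩ := hp
    rw [List.mem_map] at hp
    obtain ⟨b, hb, rfl⟩ := hp
    have hA : Perm.sign a = 1 ∧ E.J a ∈ M' := by
      simp only [List.mem_cons, List.not_mem_nil, or_false] at ha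
      rcases ha with rfl | rfl | rfl | rfl
      · exact ⟨map_one _, E.J_one.symm ▸ one_mem _⟩
      · exact ⟨s1, h1⟩
      · exact ⟨s2, h2⟩
      · exact ⟨by rw [map_mul, s1, s2]; rfl, E.J_mul s1 s2 ▸ mul_mem h1 h2⟩
    have hB : Perm.sign b = 1 ∧ E.J b ∈ M' := by
      simp only [List.mem_cons, List.not_mem_nil, or_false] at hb
      rcases hb with rfl | rfl | rfl
      · exact ⟨map_one _, E.J_one.symm ▸ one_mem _⟩
      · exact ⟨hsgn.1, hc⟩
      · exact ⟨hsgn.2.1, E.J_mul hsgn.1 hsgn.1 ▸ mul_mem hc hc⟩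
    exact E.J_mul hA.1 hB.1 ▸ mul_mem hA.2 hB.2
  have hQM : E.Q8 ≤ M := by
    rintro _ ⟨p, hp, rfl⟩
    have hv4 : ∀ b ∈ v4, E.J b ∈ M := fun b hb =>
      a12M hModd b (v4_sub b hb).2.2.1
    rw [q8, List.mem_flatMap] at hp
    obtain ⟨b, hb, hp⟩ := hp
    simp only [List.mem_cons, List.not_mem_nil, or_false] at hp
    rcases hp with rfl | rfl
    · exact hv4 _ hb
    · rw [E.J_mul sign_facts.2.1 (v4_sub b hb).2.2.2.1]
      exact mul_mem hyM (hv4 _ hb)
  have hMhalf : Nat.card M = 16 * m := by omega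
  have hv2 : E.J v0 * E.J v0 = 1 := by rw [← E.J_mul hv0s hv0s, v0_facts.2.2.1, J_one]
  have hvconj : ∀ g ∈ M, g * E.J v0 * g⁻¹ ∉ E.Q8 := by
    intro g hg hmem
    obtain ⟨q, hq, hqe⟩ := hmem
    obtain ⟨-, hqy, hqs, hcases⟩ := q8_sub q hq
    have hgy : g * E.y * g⁻¹ = E.y := by
      rw [(E.mem_H.mp (hMH hg)).eq, mul_inv_cancel_right]
    have hqy' : E.J (q * y0) = g * E.J (v0 * y0) * g⁻¹ := by
      rw [E.J_mul hqs sign_facts.2.1, E.J_mul hv0s sign_facts.2.1, hqe]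
      conv_lhs => rw [show E.J y0 = g * E.J y0 * g⁻¹ from hgy.symm]
      group
    have hvys : Perm.sign (v0 * y0) = 1 := by decide +kernel
    have hqys : Perm.sign (q * y0) = 1 := by rw [map_mul, hqs, sign_facts.2.1]; rfl
    have hshort : ∀ (a b : P8) (_ : Perm.sign a = 1) (_ : Perm.sign b = 1), a * a = 1 → a ≠ 1 →
        ¬ (∀ i, a i ≠ i) → g * E.J a * g⁻¹ = E.J b → ¬ (∀ i, b i ≠ i) := by
      intro a b ha hb ha2 ha1 hai hab hbi
      have hb2 : b * b = 1 := E.J_inj (by rw [map_mul, hb]; rfl) (map_one _) (by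
        rw [E.J_mul hb hb, J_one, ← hab, conj_mul, ← E.J_mul ha ha, ha2, J_one, mul_one, mul_inv_cancel])
      rcases E.conj_cases hb hb2 (fun e => hbi 0 (by rw [e]; rfl)) with ⟨-, k, -, hk⟩ | ⟨hh, -⟩
      · rcases E.conj_cases ha ha2 ha1 with ⟨hh, -⟩ | ⟨-, k', -, hk'⟩
        · exact hai hh
        · exact E.not_conj' ((isConj_iff.mpr ⟨k, hk⟩).trans
            ((isConj_iff.mpr ⟨g, hab⟩).symm.trans (isConj_iff.mpr ⟨k', hk'⟩).symm))
      · exact hh hbi
    have hvy2 : (v0 * y0) * (v0 * y0) = 1 ∧ v0 * y0 ≠ 1 := by decide +kernel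
    obtain ⟨a1, a2, a3, a4, a5, a6, -, -⟩ := v0_facts
    rcases hcases with h | rfl | rfl | h
    · exact hshort v0 q hv0s hqs a3 a6 a4 hqe.symm h
    · rw [J_one, eq_comm, conj_eq_one_iff] at hqe
      exact a6 (E.J_inj hv0s (map_one _) (hqe.trans E.J_one.symm))
    · have e : g * E.J v0 * g⁻¹ = g * E.y * g⁻¹ := hqe.symm.trans hgy.symm
      exact a5 (E.J_inj hv0s sign_facts.2.1 (mul_left_cancel (mul_right_cancel e)))
    · exact hshort _ _ hvys hqys hvy2.1 hvy2.2 a1 hqy'.symm h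
  obtain ⟨M1, hM1M, hM1card, hvM1, hM1n, hM1mul, -, hM1c, hM1odd⟩ := exists_half M E.Q8 hQM m hm
    (by rw [hMhalf, hQcard]; ring) (E.J v0) hvM (hv2 ▸ one_mem _) (fun q _ => hv2 ▸ Commute.one_left q) hvconj
  have hyQ : E.y ∈ E.Q8 := ⟨y0, sub_facts.2.2.2.2.2.2.2.2.2.1, rfl⟩
  have hyM1 : E.y ∈ M1 := hM1c _ hyQ fun q hq => hycen q (hMH hq)
  have hodd1 : ∀ x ∈ E.H, Odd (orderOf x) → x ∈ M1 := fun x hx ho => hM1odd x (hModd x hx ho) ho
  have hV : E.V4 ≤ M1 := by
    rintro _ ⟨p, hp, rfl⟩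
    exact a12M hodd1 p (v4_sub p hp).2.2.1
  have hVcard : Nat.card E.V4 = 4 := by
    rw [E.card_of_list sub_facts.2.2.2.1 (fun p hp => (v4_sub p hp).2.2.2.1) (fun g => Iff.rfl),
      sub_facts.2.2.2.2.1]
  obtain ⟨K, hKM1, hKcard, hyK, -, hKmul, -, -, hKodd⟩ := exists_half M1 E.V4 hV m hm
    (by rw [hVcard]; omega) E.y hyM1 (E.y_sq ▸ one_mem _) (fun q _ => E.y_sq ▸ Commute.one_left q) (by
      intro g hg hmem
      rw [(E.mem_H.mp (hMH (hM1M hg))).eq, mul_inv_cancel_right] at hmem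
      obtain ⟨p, hp, hpe⟩ := hmem
      have := E.J_inj (v4_sub p hp).2.2.2.1 sign_facts.2.1 hpe
      exact sub_facts.2.2.2.2.2.2.2.2.2.2.1 (this ▸ hp))
  have hodd : ∀ x ∈ E.H, Odd (orderOf x) → x ∈ K := fun x hx ho => hKodd x (hodd1 x hx ho) ho
  have hKH : K ≤ E.H := fun x hx => hMH (hM1M (hKM1 hx))
  have hvK : E.J v0 ∉ K := fun h => hvM1 (hKM1 h)
  have huK : E.J (gen 3) ∉ K := fun h => huM (hM1M (hKM1 h))
  have ha12 := a12M hodd
  have ht32 : ∀ p ∈ t32, E.J p ∈ K → p ∈ v4 := by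
    intro p hp hpK
    have hps := (t32_facts.2.2 p hp).1
    rcases t32_split p hp with he | he
    · rcases e16_split p he with h' | h' | h'
      · exact h'
      · refine absurd ((hKmul _ hyM1 _ (hKM1 hpK)).mp ?_ |>.mpr hpK) hyK
        rw [← E.J_mul sign_facts.2.1 hps]
        exact ha12 _ (v4_sub _ h').2.2.1
      · exfalso
        have h1 : E.J v0 * E.J p ∈ M1 := by
          rw [← E.J_mul hv0s hps]
          have hq := h'
          rw [q8, List.mem_flatMap] at hq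
          obtain ⟨b, hb, hq⟩ := hq
          simp only [List.mem_cons, List.not_mem_nil, or_false] at hq
          have hbK : E.J b ∈ M1 := hV ⟨b, hb, rfl⟩
          rcases hq with e | e <;> rw [e]
          · exact hbK
          · rw [E.J_mul sign_facts.2.1 (v4_sub b hb).2.2.2.1]
            exact mul_mem hyM1 hbK
        exact hvM1 (((hM1mul _ hvM _ (hM1M (hKM1 hpK))).mp h1).mpr (hKM1 hpK))
    · exfalso
      have hpM := hM1M (hKM1 hpK)
      have h1 : E.J p * E.J (gen 3) ∈ M := by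
        rw [← E.J_mul hps (sign_gen 3)]
        rcases e16_split _ he with h' | h' | h'
        · exact a12M hModd _ (v4_sub _ h').2.2.1
        · have h'' : E.J y0 * E.J (p * gen 3) ∈ M := by
            rw [← E.J_mul sign_facts.2.1 (e16_facts.2.2 _ he).1]
            exact a12M hModd _ (v4_sub _ h').2.2.1
          exact (Subgroup.mul_mem_cancel_left _ hyM).mp h''
        · have h'' : E.J v0 * E.J (p * gen 3) ∈ M := by
            rw [← E.J_mul hv0s (e16_facts.2.2 _ he).1]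
            exact hQM ⟨_, h', rfl⟩
          exact (Subgroup.mul_mem_cancel_left _ hvM).mp h''
      exact huM ((Subgroup.mul_mem_cancel_left _ hpM).mp h1)
  refine ⟨⟨K, hKH, by omega, ?_, ha12, ht32, hodd, huK, hvK, hyK⟩⟩
  -- the order of `K`
  have hcube : ∀ k ∈ [1, c0, c0 * c0], E.J k ∈ K := fun k hk => ha12 k (k3_facts k hk).1
  have hcentV : ∀ b ∈ v4, b ≠ 1 → ∀ g ∈ K, Commute g (E.J b) → g ∈ E.V4 := by
    intro b hb hb1 g hg hgb
    obtain ⟨k, hk, hke⟩ := (v4_moves b hb).resolve_left hb1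
    obtain ⟨-, hks, -, hkall⟩ := k3_facts k hk
    set g' := (E.J k)⁻¹ * g * E.J k with hg'
    have hg'K : g' ∈ K := mul_mem (mul_mem (inv_mem (hcube k hk)) hg) (hcube k hk)
    have h1 : Commute g' (E.J v1) := by
      rw [← hke, ← E.J_conj hks sign_facts.2.2.2.1] at hgb
      have := (Commute.conj_iff (E.J k)⁻¹).mpr hgb
      simpa [hg', mul_assoc] using this
    have h2 : Commute g' E.y := E.mem_H.mp (hKH hg'K)
    have h3 : Commute g' E.s := by
      show Commute g' (E.J sg)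
      rw [sg_facts.2.2.1, E.J_mul sign_facts.2.1 sign_facts.2.2.2.1]
      exact h2.mul_right h1
    obtain ⟨p, hp, hpe⟩ := E.mem_cent_pair h3 h2
    have hpv := ht32 p hp (hpe ▸ hg'K)
    have hg2 : g = E.J k * E.J p * (E.J k)⁻¹ := by rw [hpe, hg']; group
    rw [hg2, E.J_conj hks (v4_sub p hpv).2.2.2.1]
    refine ⟨_, ?_, rfl⟩
    have := List.all_eq_true.mp hkall p hpv
    rw [Bool.and_eq_true, decide_eq_true_iff] at this
    exact this.1
  have hVK : E.V4 ≤ K := by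
    rintro _ ⟨p, hp, rfl⟩
    exact ha12 p (v4_sub p hp).2.2.1
  have hcfg : H70.SCK.Config (E.V4.subgroupOf K) := by
    have hnorm : ∀ n : K, n ∈ Subgroup.normalizer ((E.V4.subgroupOf K : Subgroup K) : Set K) ↔
        ∃ p ∈ a12, E.J p = (n : G) := by
      intro n
      constructor
      · intro hn
        have hv1 : (⟨E.J v1, ha12 _ (v4_sub v1 (by decide +kernel)).2.2.1⟩ : K) ∈ E.V4.subgroupOf K :=
          Subgroup.mem_subgroupOf.mpr ⟨v1, by decide +kernel, rfl⟩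
        obtain ⟨b, hb, hbe⟩ := Subgroup.mem_subgroupOf.mp ((Subgroup.mem_normalizer_iff.mp hn _).mp hv1)
        have hbe' : E.J b = (n : G) * E.J v1 * (n : G)⁻¹ := hbe
        have hb1 : b ≠ 1 := by
          rintro rfl
          rw [J_one, eq_comm, conj_eq_one_iff] at hbe'
          exact absurd (E.J_inj sign_facts.2.2.2.1 (map_one _) (hbe'.trans E.J_one.symm)) (by decide +kernel)
        obtain ⟨k, hk, hke⟩ := (v4_moves b hb).resolve_left hb1
        obtain ⟨-, hks, -, hkall⟩ := k3_facts k hk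
        have hc : Commute ((E.J k)⁻¹ * (n : G)) (E.J v1) := by
          show _ = _
          calc (E.J k)⁻¹ * (n : G) * E.J v1 = (E.J k)⁻¹ * ((n : G) * E.J v1 * (n : G)⁻¹) * n := by group
            _ = (E.J k)⁻¹ * (E.J k * E.J v1 * (E.J k)⁻¹) * n := by
              rw [← hbe', ← hke, E.J_conj hks sign_facts.2.2.2.1]
            _ = _ := by group
        obtain ⟨r, hr, hre⟩ := hcentV v1 (by decide +kernel) (by decide +kernel) _
          (mul_mem (inv_mem (hcube k hk)) n.2) hc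
        refine ⟨k * r, ?_, ?_⟩
        · have := List.all_eq_true.mp hkall r hr
          rw [Bool.and_eq_true, decide_eq_true_iff, decide_eq_true_iff] at this
          exact this.2
        · rw [E.J_mul hks (v4_sub r hr).2.2.2.1, hre, mul_inv_cancel_left]
      · rintro ⟨p, hp, hpe⟩
        rw [Subgroup.mem_normalizer_iff]
        have hp' := (a12_facts.2.2 p hp).1
        have key : ∀ p ∈ a12, ∀ x : G, x ∈ E.V4 → E.J p * x * (E.J p)⁻¹ ∈ E.V4 := by
          rintro p hp _ ⟨b, hb, rfl⟩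
          rw [E.J_conj (a12_facts.2.2 p hp).1 (v4_sub b hb).2.2.2.1]
          exact ⟨_, of_decide_eq_true (List.all_eq_true.mp (a12_split p hp) b hb), rfl⟩
        intro x
        rw [Subgroup.mem_subgroupOf, Subgroup.mem_subgroupOf, Subgroup.coe_mul, Subgroup.coe_mul,
          Subgroup.coe_inv, ← hpe]
        refine ⟨key p hp x, fun hx => ?_⟩
        have hinv : p⁻¹ ∈ a12 := (forall_mem_of_all (P := fun p => p⁻¹ ∈ a12) (by decide +kernel)) p hp
        have h' := key _ hinv _ hx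
        rw [E.J_inv hp', inv_inv] at h'
        simpa [mul_assoc] using h'
    refine ⟨?_, ?_, ?_, ?_, ?_⟩
    · rw [Nat.card_congr (Subgroup.subgroupOfEquivOfLe hVK).toEquiv, hVcard]
    · rintro ⟨v, hv⟩ ⟨p, hp, hpe⟩
      apply Subtype.ext
      show v ^ 2 = 1
      rw [pow_two, ← show E.J p = v from hpe, ← E.J_mul (v4_sub p hp).2.2.2.1 (v4_sub p hp).2.2.2.1,
        (e16_facts.2.2 p (v4_sub p hp).1).2.2, J_one]
    · rintro ⟨v, hv⟩ ⟨p, hp, hpe⟩ hv1
      have hpe' : E.J p = v := hpe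
      have hp1 : p ≠ 1 := fun e => hv1 (Subtype.ext (hpe'.symm.trans ((congrArg E.J e).trans E.J_one)))
      ext g
      rw [Subgroup.mem_centralizer_singleton_iff, Subgroup.mem_subgroupOf]
      constructor
      · intro h
        exact hcentV p hp hp1 g g.2 (by rw [hpe']; exact congrArg Subtype.val h)
      · rintro ⟨q, hq, hqe⟩
        apply Subtype.ext
        show (g : G) * v = v * g
        rw [← hpe', ← hqe]
        exact ((E.J_commute (v4_sub q hq).2.2.2.1 (v4_sub p hp).2.2.2.1).mpr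
          (e16_comm q (v4_sub q hq).1 p (v4_sub p hp).1)).eq
    · intro t ht x hx hx1
      have : Fact (Nat.Prime 2) := ⟨Nat.prime_two⟩
      set V := E.V4.subgroupOf K with hVdef
      have hV4 : Nat.card V = 4 := by
        rw [Nat.card_congr (Subgroup.subgroupOfEquivOfLe hVK).toEquiv, hVcard]
      have hVp : IsPGroup 2 V := IsPGroup.of_card (n := 2) (by rw [hV4]; rfl)
      let S : Sylow 2 K := hVp.toSylow (by
        have h' := Subgroup.card_mul_index V
        rw [hV4] at h'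
        intro hdvd
        obtain ⟨r, hr⟩ := hdvd
        obtain ⟨r', hr'⟩ := hm
        omega)
      obtain ⟨T, hT⟩ := (IsPGroup.of_card (n := 1) (p := 2) (by rw [Nat.card_zpowers, ht, pow_one]) :
        IsPGroup 2 (Subgroup.zpowers t)).exists_le_sylow
      obtain ⟨k, hk⟩ := MulAction.exists_smul_eq K T S
      have hmem : k * t * k⁻¹ ∈ V := by
        have : k * t * k⁻¹ ∈ ((k • T : Sylow 2 K) : Subgroup K) := by
          rw [Sylow.coe_subgroup_smul]
          exact Subgroup.smul_mem_pointwise_smul t (MulAut.conj k) _ (hT (Subgroup.mem_zpowers t))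
        rwa [hk] at this
      have hall : ∀ z : K, z ∈ V → z ≠ 1 →
          IsConj (⟨E.J v1, ha12 _ (v4_sub v1 (by decide +kernel)).2.2.1⟩ : K) z := by
        rintro ⟨z, hz⟩ ⟨p, hp, hpe⟩ hz1
        have hp1 : p ≠ 1 := fun e => hz1 (Subtype.ext ((show z = E.J p from hpe.symm).trans ((congrArg E.J e).trans E.J_one)))
        obtain ⟨c, hc, hce⟩ := (v4_moves p hp).resolve_left hp1
        refine isConj_iff.mpr ⟨⟨E.J c, hcube c hc⟩, Subtype.ext ?_⟩
        show E.J c * E.J v1 * (E.J c)⁻¹ = z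
        rw [E.J_conj (k3_facts c hc).2.1 sign_facts.2.2.2.1, hce]
        exact hpe
      have ht1 : t ≠ 1 := fun e => by rw [e, orderOf_one] at ht; omega
      have hne : k * t * k⁻¹ ≠ 1 := by rwa [ne_eq, conj_eq_one_iff]
      exact ((hall x hx hx1).symm.trans (hall _ hmem hne)).trans (isConj_iff.mpr ⟨k, rfl⟩).symm
    · set N := Subgroup.normalizer ((E.V4.subgroupOf K : Subgroup K) : Set K) with hN
      rw [Nat.card_congr (N.equivMapOfInjective K.subtype K.subtype_injective).toEquiv,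
        E.card_of_list (S := N.map K.subtype) a12_facts.1 (fun p hp => (a12_facts.2.2 p hp).1) ?_,
        a12_facts.2.1]
      intro g
      rw [Subgroup.mem_map]
      constructor
      · rintro ⟨n, hn, rfl⟩
        exact (hnorm n).mp hn
      · rintro ⟨p, hp, rfl⟩
        exact ⟨⟨E.J p, ha12 p hp⟩, (hnorm _).mpr ⟨p, hp, rfl⟩, rfl⟩
  exact H70.SCK.card_eq hcfg

end Eight

end H78.EightNine
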