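import Mathlib.GroupTheory.Perm.Cycle.Type
import Mathlib.GroupTheory.SpecificGroups.Alternating
import Mathlib.Data.Fintype.Perm

/-!
Permutations of eight points near the involutions `(01)(23)` and `(01)(23)(45)(67)`.
-/

set_option autoImplicit false
set_option maxRecDepth 20000

namespace H78.EightNine

open Equiv

abbrev P8 := Perm (Fin 8)

theorem forall_mem_of_all {α : Type} {l : List α} {P : α → Prop} [DecidablePred P]
    (h : (l.all fun p => decide (P p)) = true) : ∀ p ∈ l, P p :=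
  fun p hp => of_decide_eq_true (List.all_eq_true.mp h p hp)

/-- The long involution. -/
def sg : P8 := swap 0 1 * swap 2 3 * swap 4 5 * swap 6 7
/-- The short involution. -/
def y0 : P8 := swap 0 1 * swap 2 3
/-- The second element of the four-group fixed by the short involution. -/
def v0 : P8 := swap 0 2 * swap 1 3
/-- The four-group on the last four points. -/
def v1 : P8 := swap 4 5 * swap 6 7
def v2 : P8 := swap 4 6 * swap 5 7
/-- A 3-cycle on the last four points. -/
def c0 : P8 := swap 4 6 * swap 4 5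

/-- Carmichael's generators. -/
def gen : ℕ → P8
  | 0 => swap 0 2 * swap 0 1
  | 1 => swap 0 1 * swap 2 3
  | 2 => swap 0 1 * swap 3 4
  | 3 => swap 0 1 * swap 4 5
  | 4 => swap 0 1 * swap 5 6
  | _ => swap 0 1 * swap 6 7

/-- The permutation exchanging the short involution with `gen 4`. -/
def pi0 : P8 := swap 2 6 * swap 3 5
/-- An involution through the last four points. -/
def t0 : P8 := swap 0 1 * swap 4 7

/-- The elementary abelian subgroup of order 16. -/
def e16 : List P8 :=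
  [1, y0, v0, y0 * v0].flatMap fun a => [1, v1, v2, v1 * v2].map fun b => a * b

/-- The Sylow subgroup of the centralizer of both involutions. -/
def t32 : List P8 := e16.flatMap fun a => [a, a * gen 3]

/-- The subgroup of order 12 on the last four points. -/
def a12 : List P8 :=
  [1, v1, v2, v1 * v2].flatMap fun a => [1, c0, c0 * c0].map fun b => a * b

/-- The centralizer of the short involution. -/
def c96 : List P8 := t32.flatMap fun a => [1, c0, c0 * c0].map fun b => a * b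

theorem sign_gen : ∀ i, Perm.sign (gen i) = 1
  | 0 | 1 | 2 | 3 | 4 => by decide +kernel
  | (_ + 5) => by
    show Perm.sign (swap 0 1 * swap 6 7 : P8) = 1
    decide +kernel

theorem sign_facts : Perm.sign sg = 1 ∧ Perm.sign y0 = 1 ∧ Perm.sign v0 = 1 ∧ Perm.sign v1 = 1 ∧
    Perm.sign v2 = 1 ∧ Perm.sign c0 = 1 ∧ Perm.sign pi0 = 1 ∧ Perm.sign t0 = 1 := by decide +kernel

theorem sg_facts : (∀ i, sg i ≠ i) ∧ sg * sg = 1 ∧ sg = y0 * v1 ∧ sg ≠ y0 ∧
    y0 * sg = sg * y0 ∧ y0 * y0 = 1 ∧ y0 ≠ 1 ∧ ¬ (∀ i, y0 i ≠ i) := by decide +kernel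

theorem t32_facts : t32.Nodup ∧ t32.length = 32 ∧ ∀ p ∈ t32,
    Perm.sign p = 1 ∧ p * sg = sg * p ∧ p * y0 = y0 * p :=
  ⟨by decide +kernel, by decide +kernel, forall_mem_of_all (by decide +kernel)⟩

theorem t32_central : ∀ p ∈ t32, (∀ i, p i ≠ i) → p * p = 1 → (∀ q ∈ t32, p * q = q * p) →
    p = sg := by
  have h : ∀ p ∈ t32, ((∀ i, p i ≠ i) ∧ p * p = 1 ∧ (t32.all fun q => decide (p * q = q * p)) = true) →
      p = sg := forall_mem_of_all (by decide +kernel)
  exact fun p hp h1 h2 h3 => h p hp ⟨h1, h2, List.all_eq_true.mpr fun q hq => decide_eq_true (h3 q hq)⟩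

theorem e16_facts : e16.Nodup ∧ e16.length = 16 ∧ ∀ p ∈ e16, Perm.sign p = 1 ∧ p * y0 = y0 * p ∧
    p * p = 1 :=
  ⟨by decide +kernel, by decide +kernel, forall_mem_of_all (by decide +kernel)⟩

theorem e16_comm : ∀ p ∈ e16, ∀ q ∈ e16, p * q = q * p := by
  have h : ∀ p ∈ e16, (e16.all fun q => decide (p * q = q * p)) = true :=
    forall_mem_of_all (by decide +kernel)
  exact fun p hp q hq => of_decide_eq_true (List.all_eq_true.mp (h p hp) q hq)

theorem a12_facts : a12.Nodup ∧ a12.length = 12 ∧ ∀ p ∈ a12,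
    Perm.sign p = 1 ∧ p * y0 = y0 * p ∧ p * v0 = v0 * p :=
  ⟨by decide +kernel, by decide +kernel, forall_mem_of_all (by decide +kernel)⟩

theorem c96_facts : c96.Nodup ∧ c96.length = 96 ∧ ∀ p ∈ c96,
    Perm.sign p = 1 ∧ p * y0 = y0 * p :=
  ⟨by decide +kernel, by decide +kernel, forall_mem_of_all (by decide +kernel)⟩

/-- Twenty-five long involutions commuting with the given one, and the short one. -/
theorem long_many : ∃ l : List P8, l.Nodup ∧ l.length = 25 ∧ y0 ∉ l ∧
    ∀ p ∈ l, (∀ i, p i ≠ i) ∧ p * p = 1 ∧ Perm.sign p = 1 ∧ p * sg = sg * p :=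
  ⟨[sg, swap 0 1 * swap 2 3 * swap 4 6 * swap 5 7, swap 0 1 * swap 2 3 * swap 4 7 * swap 5 6,
    swap 0 1 * swap 2 4 * swap 3 5 * swap 6 7, swap 0 1 * swap 2 5 * swap 3 4 * swap 6 7,
    swap 0 1 * swap 2 6 * swap 3 7 * swap 4 5, swap 0 1 * swap 2 7 * swap 3 6 * swap 4 5,
    swap 0 2 * swap 1 3 * swap 4 5 * swap 6 7, swap 0 3 * swap 1 2 * swap 4 5 * swap 6 7,
    swap 0 4 * swap 1 5 * swap 2 3 * swap 6 7, swap 0 5 * swap 1 4 * swap 2 3 * swap 6 7,
    swap 0 6 * swap 1 7 * swap 2 3 * swap 4 5, swap 0 7 * swap 1 6 * swap 2 3 * swap 4 5,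
    swap 0 2 * swap 1 3 * swap 4 6 * swap 5 7, swap 0 2 * swap 1 3 * swap 4 7 * swap 5 6,
    swap 0 3 * swap 1 2 * swap 4 6 * swap 5 7, swap 0 3 * swap 1 2 * swap 4 7 * swap 5 6,
    swap 0 4 * swap 1 5 * swap 2 6 * swap 3 7, swap 0 4 * swap 1 5 * swap 2 7 * swap 3 6,
    swap 0 5 * swap 1 4 * swap 2 6 * swap 3 7, swap 0 5 * swap 1 4 * swap 2 7 * swap 3 6,
    swap 0 6 * swap 1 7 * swap 2 4 * swap 3 5, swap 0 6 * swap 1 7 * swap 2 5 * swap 3 4,
    swap 0 7 * swap 1 6 * swap 2 4 * swap 3 5, swap 0 7 * swap 1 6 * swap 2 5 * swap 3 4],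
    by decide +kernel, by decide +kernel, by decide +kernel, forall_mem_of_all (by decide +kernel)⟩

end H78.EightNine
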